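import Cfsg.Agent.Lib.Chevalley.Twist.InstE6
import Cfsg.Agent.Lib.Chevalley.Overgroup.Order
import Cfsg.Agent.Lib.KnownB.FieldAut.Fixed

/-!
²E₆(q) and its points over the subfield with q elements: orbit elements, the reflections of the
fundamental orbits, the entrywise field map.
-/

set_option autoImplicit false
set_option maxRecDepth 20000
set_option Elab.async false
set_option linter.unusedSectionVars false

namespace CfsgLib.KnownA.E6Sub

open CfsgLib.Chevalley CfsgLib.Chevalley.Tbl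
open CfsgLib.KnownB.FieldAut (mapGL map_xU map_nU)

variable {K : Type*} [Field K] [Finite K] {q : ℕ} (hq : IsPrimePow q) (hK : Nat.card K = q ^ 2)

local notation "TT" => Data.E6.tbl
local notation "xx" => Data.E6.tbl.xU K
local notation "GR" => Data.E6.graph
local notation "σ" => Twist.E6.fq hq hK
local notation "SS" => AbSetup.S (Twist.E6.setup hq hK)

/-- The simple root indices of the four orbits. -/
def orbI : ℕ → List ℕ
  | 0 => [1]
  | 1 => [3]
  | 2 => [0, 5]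
  | _ => [2, 4]

/-- The reflection of an orbit on roots. -/
def act (j r : ℕ) : ℕ := (orbI j).foldr (fun i s => Data.E6.tbl.refl i s) r

/-- Its sign on root elements. -/
def sgn (j r : ℕ) : ℤ :=
  ((orbI j).foldr (fun i p => (Data.E6.tbl.refl i p.1, Data.E6.tbl.eta i p.1 * p.2)) (r, (1 : ℤ))).2

theorem hn : (TT).n = 72 := by decide +kernel
theorem hh : (TT).half = 36 := by decide +kernel

theorem rho_lt : ∀ r < 72, (GR).ρ r < 72 ∧ (GR).ρ ((GR).ρ r) = r ∧ (GR).lam r = 1 ∧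
    (GR).ε r * (GR).ε ((GR).ρ r) = 1 ∧ ((GR).ρ r = r → (GR).ε r = 1) ∧
    (GR).ρ r ≠ (TT).neg r ∧ ((GR).ρ r ≠ r → (TT).commT r ((GR).ρ r) = []) := by
  decide +kernel

theorem act_rho : ∀ j < 4, ∀ r < 72, act j r < 72 ∧ act j ((GR).ρ r) = (GR).ρ (act j r) ∧
    sgn j ((GR).ρ r) * (GR).ε r = (GR).ε (act j r) * sgn j r ∧ act j (act j r) = r ∧
    (sgn j r = 1 ∨ sgn j r = -1) := by
  decide +kernel

/-- The entrywise field map. -/
noncomputable abbrev phi : GL (Data.E6.tbl).I K →* GL (Data.E6.tbl).I K :=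
  mapGL Data.E6.tbl ((Twist.E6.fq hq hK).toRingHom)

local notation "φ" => phi hq hK

include hq hK in
theorem h2 (x : K) : σ (σ x) = x := by
  rw [Twist.E6.fq_apply, Twist.E6.fq_apply, ← pow_mul, ← pow_two]
  exact Twist.E6.pow_sq hK x

theorem phi_x {r : ℕ} (hr : r < 72) (t : K) : φ (xx r t) = xx r (σ t) :=
  map_xU _ Data.E6.valid (hn ▸ hr) t

theorem phi_n {r : ℕ} (hr : r < 72) : φ (Data.E6.tbl.nU K r 1) = Data.E6.tbl.nU K r 1 := by
  rw [phi, map_nU _ Data.E6.valid (hn ▸ hr), map_one]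

theorem x_group {r : ℕ} (hr : r < 72) (t : K) : xx r t ∈ (TT).datum.group K :=
  xU_mem_group Data.E6.valid (hn ▸ hr) t

theorem x_add {r : ℕ} (hr : r < 72) (u v : K) : xx r u * xx r v = xx r (u + v) :=
  xU_add Data.E6.valid (hn ▸ hr) u v

theorem x_zero {r : ℕ} (hr : r < 72) : xx r (0 : K) = 1 := xU_zero Data.E6.valid (hn ▸ hr)

theorem x_inv {r : ℕ} (hr : r < 72) (t : K) : (xx r t)⁻¹ = xx r (-t) :=
  xU_inv Data.E6.valid (hn ▸ hr) t

/-- The twisting map on a root element. -/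
theorem sg_x {r : ℕ} (hr : r < 72) (t : K) :
    (SS).sg (xx r t) = xx ((GR).ρ r) (((GR).ε r : K) * σ t) := by
  refine ((Twist.E6.setup hq hK).D.sg_x (hn ▸ hr) t).trans ?_
  show xx ((GR).ρ r) ((GR).par r (σ t)) = _
  rw [RootMap.par, (rho_lt r hr).2.2.1, pow_one]

theorem sg_phi {g : GL (TT).I K} (hg : g ∈ (TT).datum.group K) : (SS).sg (φ g) = φ ((SS).sg g) := by
  have hφ : ∀ g ∈ (TT).datum.group K, φ g ∈ (TT).datum.group K := fun g hg =>
    CfsgLib.KnownB.FieldAut.map_group _ Data.E6.valid ⟨g, hg, rfl⟩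
  rw [group_eq Data.E6.valid] at hg hφ
  have hle : ∀ x, x ∈ Subgroup.closure {g : GL (TT).I K | ∃ r < (TT).n, ∃ t, g = (TT).xU K r t} →
      x ∈ (TT).datum.group K := fun x hx => by rwa [group_eq Data.E6.valid]
  induction hg using Subgroup.closure_induction with
  | mem y hy =>
    obtain ⟨r, hr, t, rfl⟩ := hy
    rw [hn] at hr
    rw [phi_x hq hK hr, sg_x hq hK hr, sg_x hq hK hr, phi_x hq hK (rho_lt r hr).1, map_mul, map_intCast]
  | one => rw [map_one, (SS).sg_one, map_one]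
  | mul a b ha hb iha ihb =>
    rw [map_mul, (SS).sg_mul (hle _ (hφ a ha)) (hle _ (hφ b hb)), (SS).sg_mul (hle _ ha) (hle _ hb),
      map_mul, iha, ihb]
  | inv a ha iha =>
    rw [map_inv, (SS).sg_inv (hle _ (hφ a ha)), (SS).sg_inv (hle _ ha), map_inv, iha]

theorem phi_fix {g : GL (TT).I K} (hg : g ∈ (SS).fix) : φ g ∈ (SS).fix :=
  ⟨CfsgLib.KnownB.FieldAut.map_group _ Data.E6.valid ⟨g, hg.1, rfl⟩,
    by rw [sg_phi hq hK hg.1, hg.2]⟩

theorem long_fix {r : ℕ} (hr : r < 72) (hρ : (GR).ρ r = r) {c : K} (hc : σ c = c) :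
    xx r c ∈ (SS).fix := by
  refine ⟨x_group hr c, ?_⟩
  rw [sg_x hq hK hr, hρ, (rho_lt r hr).2.2.2.2.1 hρ, hc, Int.cast_one, one_mul]

theorem long_phi {r : ℕ} (hr : r < 72) {c : K} (hc : σ c = c) : φ (xx r c) = xx r c := by
  rw [phi_x hq hK hr, hc]

theorem long_fix_iff {r : ℕ} (hr : r < 72) (hρ : (GR).ρ r = r) {c : K} (h : xx r c ∈ (SS).fix) :
    σ c = c := by
  have e := h.2
  rw [sg_x hq hK hr, hρ, (rho_lt r hr).2.2.2.2.1 hρ, Int.cast_one, one_mul] at e
  exact xU_inj Data.E6.valid (hn ▸ hr) e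

/-- The orbit element of a pair of roots. -/
noncomputable def E (r : ℕ) (t : K) : GL (Data.E6.tbl).I K :=
  Data.E6.tbl.xU K r t *
    Data.E6.tbl.xU K (Data.E6.graph.ρ r) ((Data.E6.graph.ε r : K) * Twist.E6.fq hq hK t)

theorem pair_comm {r : ℕ} (hr : r < 72) (hρ : (GR).ρ r ≠ r) (u v : K) :
    Commute (xx r u) (xx ((GR).ρ r) v) := by
  obtain ⟨h1, -, -, -, -, h6, h7⟩ := rho_lt r hr
  exact commute_xU Data.E6.valid Data.E6.chkComm (hn ▸ hr) (hn ▸ h1) h6 (by rw [h7 hρ]; simp) u v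

theorem E_fix {r : ℕ} (hr : r < 72) (hρ : (GR).ρ r ≠ r) (t : K) : E hq hK r t ∈ (SS).fix := by
  obtain ⟨h1, h2', -, h4, -⟩ := rho_lt r hr
  refine ⟨mul_mem (x_group hr _) (x_group h1 _), ?_⟩
  rw [E, (SS).sg_mul (x_group hr _) (x_group h1 _), sg_x hq hK hr, sg_x hq hK h1, h2', map_mul,
    map_intCast, h2 hq hK, ← mul_assoc (((GR).ε ((GR).ρ r) : ℤ) : K), ← Int.cast_mul,
    mul_comm ((GR).ε ((GR).ρ r)), h4, Int.cast_one, one_mul, (pair_comm hr hρ t _).eq]

theorem E_phi {r : ℕ} (hr : r < 72) (t : K) : φ (E hq hK r t) = E hq hK r (σ t) := by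
  rw [E, E, map_mul, phi_x hq hK hr, phi_x hq hK (rho_lt r hr).1, map_mul, map_intCast]

theorem E_add {r : ℕ} (hr : r < 72) (hρ : (GR).ρ r ≠ r) (s t : K) :
    E hq hK r s * E hq hK r t = E hq hK r (s + t) := by
  rw [E, E, E, mul_assoc, ← mul_assoc (xx ((GR).ρ r) _), ← (pair_comm hr hρ t _).eq, mul_assoc,
    x_add (rho_lt r hr).1, ← mul_assoc, x_add hr, ← mul_add, ← map_add]

theorem E_zero {r : ℕ} (hr : r < 72) : E hq hK r (0 : K) = 1 := by
  rw [E, map_zero, mul_zero, x_zero hr, x_zero (rho_lt r hr).1, one_mul]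

theorem E_inv {r : ℕ} (hr : r < 72) (hρ : (GR).ρ r ≠ r) (t : K) :
    (E hq hK r t)⁻¹ = E hq hK r (-t) :=
  inv_eq_of_mul_eq_one_right (by rw [E_add hq hK hr hρ, add_neg_cancel, E_zero hq hK hr])

/-- The reflection of an orbit. -/
noncomputable def nj (j : ℕ) : GL (Data.E6.tbl).I K :=
  ((orbI j).map fun i => Data.E6.tbl.nU K (Data.E6.tbl.simple i) 1).prod

theorem nj_x {j s : ℕ} (hj : j < 4) (hs : s < 72) (t : K) :
    nj j * xx s t = xx (act j s) ((sgn j s : K) * t) * nj j := by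
  have h1 : ∀ i r, i < 6 → r < 72 → ∀ t : K, (TT).nU K ((TT).simple i) 1 * xx r t =
      xx ((TT).refl i r) (((TT).eta i r : K) * t) * (TT).nU K ((TT).simple i) 1 :=
    fun i r hi hr t => nU_simple_xU Data.E6.valid hi (hn ▸ hr) t
  have k : ∀ i < 6, ∀ r < 72, (TT).refl i r < 72 := by decide +kernel
  obtain rfl | rfl | rfl | rfl : j = 0 ∨ j = 1 ∨ j = 2 ∨ j = 3 := by omega
  · simpa [nj, act, sgn, orbI] using h1 1 s (by norm_num) hs t
  · simpa [nj, act, sgn, orbI] using h1 3 s (by norm_num) hs t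
  · simp only [nj, act, sgn, orbI, List.map_cons, List.map_nil, List.prod_cons, List.prod_nil, mul_one,
      List.foldr_cons, List.foldr_nil]
    rw [mul_assoc, h1 5 s (by norm_num) hs, ← mul_assoc,
      h1 0 _ (by norm_num) (k 5 (by norm_num) s hs)]
    simp only [Int.cast_mul, mul_assoc]
  · simp only [nj, act, sgn, orbI, List.map_cons, List.map_nil, List.prod_cons, List.prod_nil, mul_one,
      List.foldr_cons, List.foldr_nil]
    rw [mul_assoc, h1 4 s (by norm_num) hs, ← mul_assoc,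
      h1 2 _ (by norm_num) (k 4 (by norm_num) s hs)]
    simp only [Int.cast_mul, mul_assoc]

theorem nj_conj {j s : ℕ} (hj : j < 4) (hs : s < 72) (t : K) :
    nj j * xx s t * (nj j)⁻¹ = xx (act j s) ((sgn j s : K) * t) := by
  rw [nj_x hj hs, mul_inv_cancel_right]

theorem nj_E {j r : ℕ} (hj : j < 4) (hr : r < 72) (t : K) :
    nj j * E hq hK r t * (nj j)⁻¹ = E hq hK (act j r) ((sgn j r : K) * t) := by
  obtain ⟨-, h2', h3, -, -⟩ := act_rho j hj r hr
  rw [E, show nj j * (xx r t * xx ((GR).ρ r) (((GR).ε r : K) * σ t)) * (nj j)⁻¹ =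
      nj j * xx r t * (nj j)⁻¹ * (nj j * xx ((GR).ρ r) (((GR).ε r : K) * σ t) * (nj j)⁻¹) by group,
    nj_conj hj hr, nj_conj hj (rho_lt r hr).1, h2', E, map_mul, map_intCast, ← mul_assoc, ← mul_assoc,
    ← Int.cast_mul, h3, Int.cast_mul]

theorem mono_nj {j : ℕ} (hj : j < 4) :
    ∃ w, (TT).Mono (nj j : GL (TT).I K) w ∧ ∀ s : Fin (TT).n, (w s).val = act j s.val := by
  have h : ∀ i : Fin (TT).rank, (TT).Mono ((TT).nU K ((TT).simple i.val) 1) ((TT).refP Data.E6.valid i) :=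
    mono_nU_simple (F := K) Data.E6.valid
  have hr : (TT).rank = 6 := by decide +kernel
  obtain rfl | rfl | rfl | rfl : j = 0 ∨ j = 1 ∨ j = 2 ∨ j = 3 := by omega
  · exact ⟨_, by simpa [nj, orbI] using h ⟨1, by rw [hr]; norm_num⟩, fun s => by simp [act, orbI, refP_apply]⟩
  · exact ⟨_, by simpa [nj, orbI] using h ⟨3, by rw [hr]; norm_num⟩, fun s => by simp [act, orbI, refP_apply]⟩
  · exact ⟨_, by simpa [nj, orbI] using (h ⟨0, by rw [hr]; norm_num⟩).mul (h ⟨5, by rw [hr]; norm_num⟩),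
      fun s => by simp [act, orbI, refP_apply]⟩
  · exact ⟨_, by simpa [nj, orbI] using (h ⟨2, by rw [hr]; norm_num⟩).mul (h ⟨4, by rw [hr]; norm_num⟩),
      fun s => by simp [act, orbI, refP_apply]⟩

theorem nj_monomial {j : ℕ} (hj : j < 4) : (nj j : GL (TT).I K) ∈ (TT).datum.monomialSubgroup K := by
  have k : ∀ j < 4, ∀ i ∈ orbI j, i < (TT).rank := by decide +kernel
  refine list_prod_mem fun x hx => ?_
  obtain ⟨i, hi, rfl⟩ := List.mem_map.mp hx
  simpa [nw] using nw_mem (F := K) Data.E6.valid [⟨i, k j hj i hi⟩]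

theorem sg_n {r : ℕ} (hr : r < 72) (he : (GR).ε r = 1) :
    (SS).sg ((TT).nU K r 1) = (TT).nU K ((GR).ρ r) 1 := by
  refine ((SS).sg_nU ⟨r, hn ▸ hr⟩ 1).trans ?_
  show (TT).nU K ((GR).ρ r) ((GR).par r (σ 1)) = _
  rw [RootMap.par, (rho_lt r hr).2.2.1, he, pow_one, map_one, Int.cast_one, mul_one]

theorem n_comm {r s : ℕ}
    (h : ∀ r' ∈ [r, (TT).neg r], ∀ s' ∈ [s, (TT).neg s], r' < (TT).n ∧ s' < (TT).n ∧
      s' ≠ (TT).neg r' ∧ (TT).commT r' s' = []) :
    Commute ((TT).nU K r 1) ((TT).nU K s 1) := by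
  have hc : ∀ r' ∈ [r, (TT).neg r], ∀ s' ∈ [s, (TT).neg s], ∀ t u : K,
      Commute (xx r' t) (xx s' u) := fun r' hr' s' hs' t u => by
    obtain ⟨h1, h2, h4, h5⟩ := h r' hr' s' hs'
    exact commute_xU Data.E6.valid Data.E6.chkComm h1 h2 h4 (by rw [h5]; simp) t u
  have hx : ∀ r' ∈ [r, (TT).neg r], ∀ t : K, Commute (xx r' t) ((TT).nU K s 1) := fun r' hr' t =>
    ((hc r' hr' s (by simp) t _).mul_right (hc r' hr' _ (by simp) t _)).mul_right
      (hc r' hr' s (by simp) t _)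
  exact ((hx r (by simp) _).mul_left (hx _ (by simp) _)).mul_left (hx r (by simp) _)

theorem nj_fix {j : ℕ} (hj : j < 4) :
    (nj j : GL (TT).I K) ∈ (SS).fix ∧ φ (nj j : GL (TT).I K) = nj j := by
  have k : ∀ j < 4, ∀ i ∈ orbI j, (TT).simple i < 72 ∧ (GR).ε ((TT).simple i) = 1 := by decide +kernel
  refine ⟨⟨monomial_le_group Data.E6.valid (nj_monomial hj), ?_⟩, ?_⟩
  · have hG : ∀ r < 72, (TT).nU K r 1 ∈ (TT).datum.group K := fun r hr =>
      nU_mem_group Data.E6.valid (hn ▸ hr) _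
    obtain rfl | rfl | rfl | rfl : j = 0 ∨ j = 1 ∨ j = 2 ∨ j = 3 := by omega
    · simp only [nj, orbI, List.map_cons, List.map_nil, List.prod_cons, List.prod_nil, mul_one]
      rw [sg_n hq hK (k 0 hj 1 (by decide)).1 (k 0 hj 1 (by decide)).2,
        show (GR).ρ ((TT).simple 1) = (TT).simple 1 by decide +kernel]
    · simp only [nj, orbI, List.map_cons, List.map_nil, List.prod_cons, List.prod_nil, mul_one]
      rw [sg_n hq hK (k 1 hj 3 (by decide)).1 (k 1 hj 3 (by decide)).2,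
        show (GR).ρ ((TT).simple 3) = (TT).simple 3 by decide +kernel]
    · simp only [nj, orbI, List.map_cons, List.map_nil, List.prod_cons, List.prod_nil, mul_one]
      rw [(SS).sg_mul (hG _ (k 2 hj 0 (by decide)).1) (hG _ (k 2 hj 5 (by decide)).1),
        sg_n hq hK (k 2 hj 0 (by decide)).1 (k 2 hj 0 (by decide)).2,
        sg_n hq hK (k 2 hj 5 (by decide)).1 (k 2 hj 5 (by decide)).2,
        show (GR).ρ ((TT).simple 0) = (TT).simple 5 by decide +kernel,
        show (GR).ρ ((TT).simple 5) = (TT).simple 0 by decide +kernel]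
      exact (n_comm (by decide +kernel)).eq
    · simp only [nj, orbI, List.map_cons, List.map_nil, List.prod_cons, List.prod_nil, mul_one]
      rw [(SS).sg_mul (hG _ (k 3 hj 2 (by decide)).1) (hG _ (k 3 hj 4 (by decide)).1),
        sg_n hq hK (k 3 hj 2 (by decide)).1 (k 3 hj 2 (by decide)).2,
        sg_n hq hK (k 3 hj 4 (by decide)).1 (k 3 hj 4 (by decide)).2,
        show (GR).ρ ((TT).simple 2) = (TT).simple 4 by decide +kernel,
        show (GR).ρ ((TT).simple 4) = (TT).simple 2 by decide +kernel]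
      exact (n_comm (by decide +kernel)).eq
  · rw [nj, map_list_prod, List.map_map]
    exact congrArg List.prod (List.map_congr_left fun i hi => phi_n hq hK (k j hj i hi).1)

/-- A subgroup between the points over the subfield and the whole twisted group. -/
structure Over (H : Subgroup (GL (Data.E6.tbl).I K)) : Prop where
  le : H ≤ (AbSetup.S (Twist.E6.setup hq hK)).fix
  ge : ∀ g ∈ (AbSetup.S (Twist.E6.setup hq hK)).fix, phi hq hK g = g → g ∈ H

variable {hq hK} {H : Subgroup (GL (Data.E6.tbl).I K)}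

theorem conj_of_fixed {g y : GL (TT).I K} (hg : φ g = g) (h : φ y = y) :
    φ (g * y * g⁻¹) = g * y * g⁻¹ := by
  rw [map_mul, map_mul, map_inv, hg, h]

theorem Over.long (h : Over hq hK H) {r : ℕ} (hr : r < 72) (hρ : (GR).ρ r = r) {c : K}
    (hc : σ c = c) : xx r c ∈ H :=
  h.ge _ (long_fix hq hK hr hρ hc) (long_phi hq hK hr hc)

theorem Over.nj_mem (h : Over hq hK H) {j : ℕ} (hj : j < 4) : (nj j : GL (TT).I K) ∈ H :=
  h.ge _ (nj_fix hq hK hj).1 (nj_fix hq hK hj).2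

theorem Over.E_mem (h : Over hq hK H) {r : ℕ} (hr : r < 72) (hρ : (GR).ρ r ≠ r) {c : K}
    (hc : σ c = c) : E hq hK r c ∈ H :=
  h.ge _ (E_fix hq hK hr hρ c) (by rw [E_phi hq hK hr, hc])

end CfsgLib.KnownA.E6Sub
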