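import Cfsg.Agent.Lib.KnownA.E6Sub.Climb
import Cfsg.Agent.Lib.Chevalley.Length
import Cfsg.Agent.Lib.Chevalley.Twist.RootUniq
import Cfsg.Agent.Lib.Chevalley.Twist.OrbitProd

/-!
The points over the subfield with q elements have trivial centralizer in ²E₆(q).
-/

set_option autoImplicit false
set_option maxRecDepth 20000
set_option Elab.async false
set_option linter.unusedSectionVars false

namespace CfsgLib.KnownA.E6Sub

open CfsgLib.Chevalley CfsgLib.Chevalley.Tbl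

variable {K : Type*} [Field K] [Finite K] {q : ℕ} {hq : IsPrimePow q} {hK : Nat.card K = q ^ 2}

local notation "TT" => Data.E6.tbl
local notation "xx" => Data.E6.tbl.xU K
local notation "GR" => Data.E6.graph
local notation "σ" => Twist.E6.fq hq hK
local notation "SS" => AbSetup.S (Twist.E6.setup hq hK)
local notation "φ" => phi hq hK
local notation "UU" => Tbl.rootGen Data.E6.tbl K (fun r => 36 ≤ r)

/-- Commuting with every conjugate of the long root element by a point over the subfield. -/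
def CommAll (hq : IsPrimePow q) (hK : Nat.card K = q ^ 2) (d : GL (Data.E6.tbl).I K) : Prop :=
  ∀ m ∈ (AbSetup.S (Twist.E6.setup hq hK)).fix, phi hq hK m = m →
    Commute d (m * Data.E6.tbl.xU K 71 1 * m⁻¹)

theorem CommAll.conj {d m : GL (TT).I K} (hd : CommAll hq hK d) (hm : m ∈ (SS).fix) (hmφ : φ m = m) :
    CommAll hq hK (m⁻¹ * d * m) := by
  intro m' hm' hm'φ
  have h := hd (m * m') (mul_mem hm hm') (by rw [map_mul, hmφ, hm'φ])
  have e : m' * xx 71 1 * m'⁻¹ = m⁻¹ * (m * m' * xx 71 1 * (m * m')⁻¹) * m := by group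
  rw [e]
  show _ = _
  calc m⁻¹ * d * m * (m⁻¹ * (m * m' * xx 71 1 * (m * m')⁻¹) * m)
      = m⁻¹ * (d * (m * m' * xx 71 1 * (m * m')⁻¹)) * m := by group
    _ = _ := by rw [h.eq]; group

/-- The root elements with parameters `±1` at a root commute with everything commuting with all. -/
def Cen (hq : IsPrimePow q) (hK : Nat.card K = q ^ 2) (r : ℕ) : Prop :=
  ∀ d : GL (Data.E6.tbl).I K, CommAll hq hK d → ∀ e : K, e = 1 ∨ e = -1 →
    Commute d (Data.E6.tbl.xU K r e)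

theorem Cen.step {j r r' : ℕ} (hj : j < 4 ∧ r < 72 ∧ act j r = r') (ih : Cen hq hK r') :
    Cen hq hK r := by
  obtain ⟨hj, hr, rfl⟩ := hj
  intro d hd e he
  obtain ⟨hf, hφ⟩ := nj_fix hq hK hj (K := K)
  have h1 := ih _ (hd.conj (inv_mem hf) (by rw [map_inv, hφ])) ((sgn j r : K) * e) (by
    rcases (act_rho j hj r hr).2.2.2.2 with k | k <;> rcases he with rfl | rfl <;> simp [k])
  rw [inv_inv, ← nj_conj hj hr] at h1
  show _ = _
  have h2 := h1.eq
  calc d * xx r e = (nj j)⁻¹ * (nj j * d * (nj j)⁻¹ * (nj j * xx r e * (nj j)⁻¹)) * nj j := by group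
    _ = _ := by rw [h2]; group

theorem cen_all : ∀ r < 72, (GR).ρ r = r → Cen hq hK r := by
  have c71 : Cen hq hK 71 := by
    intro d hd e he
    have h := hd 1 (one_mem _) (map_one _)
    rw [one_mul, inv_one, mul_one] at h
    rcases he with rfl | rfl
    · exact h
    · rw [← x_inv (by norm_num)]; exact h.inv_right
  have c70 : Cen hq hK 70 := .step (j := 0) (by decide +kernel) c71
  have c69 : Cen hq hK 69 := .step (j := 1) (by decide +kernel) c70
  have c65 : Cen hq hK 65 := .step (j := 3) (by decide +kernel) c69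
  have c63 : Cen hq hK 63 := .step (j := 1) (by decide +kernel) c65
  have c53 : Cen hq hK 53 := .step (j := 2) (by decide +kernel) c65
  have c60 : Cen hq hK 60 := .step (j := 0) (by decide +kernel) c63
  have c51 : Cen hq hK 51 := .step (j := 1) (by decide +kernel) c53
  have c47 : Cen hq hK 47 := .step (j := 3) (by decide +kernel) c51
  have c44 : Cen hq hK 44 := .step (j := 0) (by decide +kernel) c51
  have c39 : Cen hq hK 39 := .step (j := 0) (by decide +kernel) c47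
  have c46 : Cen hq hK 46 := .step (j := 1) (by decide +kernel) c47
  have c25 : Cen hq hK 25 := .step (j := 0) (by decide +kernel) c46
  have c24 : Cen hq hK 24 := .step (j := 1) (by decide +kernel) c25
  have c20 : Cen hq hK 20 := .step (j := 3) (by decide +kernel) c24
  have c8 : Cen hq hK 8 := .step (j := 2) (by decide +kernel) c20
  have c18 : Cen hq hK 18 := .step (j := 1) (by decide +kernel) c20
  have c6 : Cen hq hK 6 := .step (j := 1) (by decide +kernel) c8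
  have c2 : Cen hq hK 2 := .step (j := 3) (by decide +kernel) c6
  have c1 : Cen hq hK 1 := .step (j := 1) (by decide +kernel) c2
  have c11 : Cen hq hK 11 := .step (j := 0) (by decide +kernel) c8
  have c27 : Cen hq hK 27 := .step (j := 0) (by decide +kernel) c20
  have c32 : Cen hq hK 32 := .step (j := 0) (by decide +kernel) c24
  have c0 : Cen hq hK 0 := .step (j := 0) (by decide +kernel) c1
  intro r hr hρ
  have k : ∀ r < 72, (GR).ρ r = r → r ∈ [0, 1, 2, 6, 8, 11, 18, 20, 24, 25, 27, 32, 39, 44, 46, 47, 51,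
      53, 60, 63, 65, 69, 70, 71] := by decide +kernel
  have k' := k r hr hρ
  simp only [List.mem_cons, List.not_mem_nil, or_false] at k'
  rcases k' with rfl | rfl | rfl | rfl | rfl | rfl | rfl | rfl | rfl | rfl | rfl | rfl | rfl | rfl |
    rfl | rfl | rfl | rfl | rfl | rfl | rfl | rfl | rfl | rfl <;> assumption

/-- The height of a root under a permutation. -/
def htw (w : Equiv.Perm (Fin (Data.E6.tbl).n)) (t : ℕ) : ℤ :=
  if h : t < (Data.E6.tbl).n then Data.E6.tbl.ht (w ⟨t, h⟩).val else 0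

theorem closed_htw {w : Equiv.Perm (Fin (TT).n)} (hw : w ∈ (TT).WP Data.E6.valid) {k : ℤ} (hk : 1 ≤ k) :
    (TT).Closed (fun t => 36 ≤ t ∧ k ≤ htw w t) := by
  intro a ha b hb h1 h2 _ _ c hc
  have hc' := commT_lt Data.E6.valid ha hb c hc
  refine ⟨(grow a (hn ▸ ha) h1.1 b (hn ▸ hb) h2.1 c hc).1, ?_⟩
  obtain ⟨hi, hj, hco⟩ := commT_co Data.E6.valid ha hb c hc
  have hh1 := h1.2
  have hh2 := h2.2
  simp only [htw, dif_pos ha, dif_pos hb, dif_pos hc'] at hh1 hh2 ⊢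
  have e : ∀ i < (TT).rank, (TT).co (w ⟨c.1, hc'⟩).val i =
      (c.2.2.1 : ℤ) * (TT).co (w ⟨a, ha⟩).val i + (c.2.2.2 : ℤ) * (TT).co (w ⟨b, hb⟩).val i := by
    intro i hi
    rw [WP_linear Data.E6.valid hw _ hi, WP_linear Data.E6.valid hw _ hi,
      WP_linear Data.E6.valid hw _ hi, Finset.mul_sum, Finset.mul_sum, ← Finset.sum_add_distrib]
    exact Finset.sum_congr rfl fun m _ => by
      show (TT).co c.1 _ * _ = _
      rw [hco m.val m.2]; ring
  have e2 : (TT).ht (w ⟨c.1, hc'⟩).val =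
      (c.2.2.1 : ℤ) * (TT).ht (w ⟨a, ha⟩).val + (c.2.2.2 : ℤ) * (TT).ht (w ⟨b, hb⟩).val := by
    simp only [Tbl.ht, Tbl.list_sum_range, Finset.mul_sum, ← Finset.sum_add_distrib]
    exact Finset.sum_congr rfl fun m _ => e m.val m.2
  rw [e2]
  have p1 : (1 : ℤ) ≤ c.2.2.1 := by exact_mod_cast hi
  have p2 : (1 : ℤ) ≤ c.2.2.2 := by exact_mod_cast hj
  nlinarith

/-- An element commuting with a positive root element cannot lower its height. -/
theorem ht_le_of_commute {d a n u : GL (TT).I K} {w : Equiv.Perm (Fin (TT).n)}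
    (hw : w ∈ (TT).WP Data.E6.valid) (hm : (TT).Mono n w) (ha : a ∈ UU) (hu : u ∈ UU)
    (e : d = a * n * u) {s : ℕ} (hs : s < 72) (hp : 36 ≤ s) (hd : Commute d (xx s 1)) :
    (TT).ht s ≤ htw w s := by
  have hT := Data.E6.valid
  set h := (TT).ht s with hh'
  have h1 : 1 ≤ h := by
    have k : ∀ s < 72, 36 ≤ s → 1 ≤ (TT).ht s := by decide +kernel
    exact k s hs hp
  have kpos : ∀ t < 72, 1 ≤ (TT).ht t → 36 ≤ t := by decide +kernel
  let Hh : ℕ → Prop := fun t => 36 ≤ t ∧ h ≤ (TT).ht t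
  have hHh : Up Hh := ⟨fun _ k => k.1, fun r hr hrp t ht hk c hc => by
    obtain ⟨g1, -, -, -, g5⟩ := grow r hr hrp t ht hk.1 c hc
    exact ⟨g1, le_trans hk.2 g5.le⟩⟩
  set y := u * xx s 1 * u⁻¹ with hy
  set z := a⁻¹ * xx s 1 * a with hz
  have hyz : n * y * n⁻¹ = z := by
    rw [hy, hz]
    calc n * (u * xx s 1 * u⁻¹) * n⁻¹ = a⁻¹ * (d * xx s 1 * d⁻¹) * a := by rw [e]; group
      _ = _ := by rw [hd.eq, mul_inv_cancel_right]
  have hxs : xx s 1 ∈ (TT).rootGen K Hh := xU_mem_rootGen (P := Hh) (hn ▸ hs) ⟨hp, le_rfl⟩ 1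
  have hyH : y ∈ (TT).rootGen K Hh := hHh.move hu hxs
  have hzH : z ∈ (TT).rootGen K Hh := by simpa [hz] using hHh.move (inv_mem ha) hxs
  have hyU : y ∈ UU := pos_le (fun _ k => k.1) hyH
  have hzU : z ∈ UU := pos_le (fun _ k => k.1) hzH
  have hzp : z ∈ (TT).rootGen K (fun t => 36 ≤ t ∧ 1 ≤ htw w⁻¹ t) := by
    have k := (mem_posSet_iff hT Data.E6.chkComm hm.inv (x := z)).mpr
      ⟨by rw [hh]; exact hzU, by rw [hh, inv_inv, ← hyz]; simpa [mul_assoc] using hyU⟩
    refine rootGen_mono (fun t ht ⟨_, h2, h3⟩ => ⟨hh ▸ h2, ?_⟩) k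
    simp only [htw, dif_pos ht]
    have k' : ∀ t < 72, 36 ≤ t → 1 ≤ (TT).ht t := by decide +kernel
    exact k' _ (hn ▸ (w⁻¹ ⟨t, ht⟩).2) (hh ▸ h3)
  have hzI := Overgroup.closed_inter_mem hT Data.E6.chkComm (closed_htw (inv_mem hw) le_rfl) hHh.closed
    (fun t k => hh ▸ k.1) (fun t k => hh ▸ k.1) hzp hzH
  have hyB : y ∈ (TT).rootGen K (fun t => 36 ≤ t ∧ h ≤ htw w t) := by
    have k := conj_mem_rootGen hT hm.inv (Q := fun t => 36 ≤ t ∧ h ≤ htw w t) (fun t ht => ?_) hzI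
    · rwa [inv_inv, ← hyz, show n⁻¹ * (n * y * n⁻¹) * n = y by group] at k
    · obtain ⟨⟨-, k1⟩, -, k2⟩ := ht
      refine ⟨kpos _ (hn ▸ (w⁻¹ t).2) ?_, ?_⟩
      · simpa [htw, t.2] using k1
      · rw [htw, dif_pos (w⁻¹ t).2]
        simpa using k2
  by_contra hlt
  have hq1 : y ∈ (TT).rootGen K (qv s) := by
    refine rootGen_mono (fun t _ k => ⟨k.1.1, k.2.2, fun e => ?_⟩)
      (Overgroup.closed_inter_mem hT Data.E6.chkComm (closed_htw hw h1) hHh.closed
        (fun t k => hh ▸ k.1) (fun t k => hh ▸ k.1) hyB hyH)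
    subst e
    exact hlt k.1.2
  have hq2 : y * (xx s 1)⁻¹ ∈ (TT).rootGen K (qv s) := by
    refine cm_of_gen (up_qv s) (fun t k => k) (x_U hs hp 1) (fun t ht htp v => ?_) hu
    refine cm_gen (up_qv s) hs hp ht htp (Or.inr fun c hc => ?_) v 1
    obtain ⟨g1, -, -, g4, -⟩ := grow s hs hp t ht htp c hc
    exact ⟨g1, g4.le, fun e => by rw [e] at g4; exact lt_irrefl _ g4⟩
  have hx : xx s 1 ∈ (TT).rootGen K (qv s) := by
    simpa [mul_assoc] using mul_mem (inv_mem hq2) hq1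
  exact one_ne_zero (coord_zero (up_qv s).closed (up_qv s).1 hs hp (fun k => k.2.2 rfl) hx)

theorem mem_borel_of_commute {d : GL (TT).I K} (hd : CommAll hq hK d) (hf : d ∈ (SS).fix) :
    d ∈ (TT).datum.borelSubgroup K := by
  have hT := Data.E6.valid
  obtain ⟨a, ha, -, n, hnN, -, w, hw, hm, u, hu, -, e⟩ := (SS).fix_canonical hf
  rw [hh] at ha
  have huU : u ∈ UU := rootGen_mono (fun s _ ⟨_, hp, _⟩ => hh ▸ hp) hu
  have hWP : w ∈ (TT).WP hT := ((SS).mem_W1_iff.mp hw).1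
  have hρ : ∀ s : Fin (TT).n, (GR).ρ (w s).val = (w ((SS).ρ s)).val := by
    intro s
    have h1 := ((SS).mem_W1_iff.mp hw).2
    rw [mul_inv_eq_iff_eq_mul] at h1
    exact congrArg Fin.val (congrArg (fun p : Equiv.Perm (Fin (TT).n) => p s) h1)
  have hlong : ∀ (s : Fin (TT).n), (GR).ρ s.val = s.val → 36 ≤ s.val →
      (GR).ρ (w s).val = (w s).val ∧ (TT).ht s.val ≤ (TT).ht (w s).val := by
    intro s h1 h2
    refine ⟨by rw [hρ, show (SS).ρ s = s from Fin.ext h1], ?_⟩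
    have := ht_le_of_commute hWP hm ha huU e (hn ▸ s.2) h2 (cen_all _ (hn ▸ s.2) h1 d hd 1 (Or.inl rfl))
    simpa [htw, s.2] using this
  have k : ∀ r < 72, (GR).ρ r = r →
      (11 ≤ (TT).ht r → r = 71) ∧ (10 ≤ (TT).ht r → r = 71 ∨ r = 70) ∧
      (9 ≤ (TT).ht r → r = 71 ∨ r = 70 ∨ r = 69) ∧
      (7 ≤ (TT).ht r → r = 71 ∨ r = 70 ∨ r = 69 ∨ r = 65) := by
    have k1 : ((List.range 72).all fun r => decide ((GR).ρ r = r →
        ((TT).ht r < 7 ∨ r = 71 ∨ r = 70 ∨ r = 69 ∨ r = 65))) = true := by decide +kernel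
    have k2 : (TT).ht 70 = 10 ∧ (TT).ht 69 = 9 ∧ (TT).ht 65 = 7 := by decide +kernel
    intro r hr hρ
    simp only [List.all_eq_true, List.mem_range, decide_eq_true_eq] at k1
    obtain h | rfl | rfl | rfl | rfl := k1 r hr hρ
    · exact ⟨fun _ => by omega, fun _ => by omega, fun _ => by omega, fun _ => by omega⟩
    all_goals refine ⟨fun _ => ?_, fun _ => ?_, fun _ => ?_, fun _ => ?_⟩ <;> simp_all
  have e71 : (w ⟨71, by decide +kernel⟩).val = 71 := by
    obtain ⟨a1, a2⟩ := hlong ⟨71, by decide +kernel⟩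
      (show (GR).ρ 71 = 71 by decide +kernel) (by norm_num)
    exact (k _ (hn ▸ (w _).2) a1).1 (le_trans (show 11 ≤ (TT).ht 71 by decide +kernel) a2)
  have hinj : ∀ (r s : Fin (TT).n), (w r).val = r.val → r ≠ s → (w s).val ≠ r.val := fun r s h hne h' =>
    hne (w.injective (Fin.ext (h.trans h'.symm)))
  have e70 : (w ⟨70, by decide +kernel⟩).val = 70 := by
    obtain ⟨a1, a2⟩ := hlong ⟨70, by decide +kernel⟩
      (show (GR).ρ 70 = 70 by decide +kernel) (by norm_num)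
    exact ((k _ (hn ▸ (w _).2) a1).2.1 (le_trans (show 10 ≤ (TT).ht 70 by decide +kernel) a2)).resolve_left
      (hinj ⟨71, by decide +kernel⟩ ⟨70, by decide +kernel⟩ e71 (by simp))
  have e69 : (w ⟨69, by decide +kernel⟩).val = 69 := by
    obtain ⟨a1, a2⟩ := hlong ⟨69, by decide +kernel⟩
      (show (GR).ρ 69 = 69 by decide +kernel) (by norm_num)
    exact (((k _ (hn ▸ (w _).2) a1).2.2.1 (le_trans (show 9 ≤ (TT).ht 69 by decide +kernel) a2)).resolve_left
      (hinj ⟨71, by decide +kernel⟩ ⟨69, by decide +kernel⟩ e71 (by simp))).resolve_left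
      (hinj ⟨70, by decide +kernel⟩ ⟨69, by decide +kernel⟩ e70 (by simp))
  have e65 : (w ⟨65, by decide +kernel⟩).val = 65 := by
    obtain ⟨a1, a2⟩ := hlong ⟨65, by decide +kernel⟩
      (show (GR).ρ 65 = 65 by decide +kernel) (by norm_num)
    exact ((((k _ (hn ▸ (w _).2) a1).2.2.2 (le_trans (show 7 ≤ (TT).ht 65 by decide +kernel) a2)).resolve_left
      (hinj ⟨71, by decide +kernel⟩ ⟨65, by decide +kernel⟩ e71 (by simp))).resolve_left
      (hinj ⟨70, by decide +kernel⟩ ⟨65, by decide +kernel⟩ e70 (by simp))).resolve_left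
      (hinj ⟨69, by decide +kernel⟩ ⟨65, by decide +kernel⟩ e69 (by simp))
  have hS : ∀ (s : Fin (TT).n) (j : ℕ), j < 6 → (TT).co (w s).val j =
      (TT).co s.val 0 * (TT).co (w ⟨56, by decide +kernel⟩).val j +
      (TT).co s.val 1 * (TT).co (w ⟨46, by decide +kernel⟩).val j +
      (TT).co s.val 2 * (TT).co (w ⟨42, by decide +kernel⟩).val j +
      (TT).co s.val 3 * (TT).co (w ⟨39, by decide +kernel⟩).val j +
      (TT).co s.val 4 * (TT).co (w ⟨37, by decide +kernel⟩).val j +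
      (TT).co s.val 5 * (TT).co (w ⟨36, by decide +kernel⟩).val j := by
    intro s j hj
    rw [WP_linear hT hWP s hj]
    show ∑ k : Fin 6, _ = _
    rw [Fin.sum_univ_six]
    rfl
  have hρ37 : (w ⟨37, by decide +kernel⟩).val = (GR).ρ (w ⟨42, by decide +kernel⟩).val := by
    rw [hρ, show (SS).ρ ⟨42, by decide +kernel⟩ = (⟨37, by decide +kernel⟩ : Fin (TT).n) from
      Fin.ext (show (GR).ρ 42 = 37 by decide +kernel)]
  have hρ36 : (w ⟨36, by decide +kernel⟩).val = (GR).ρ (w ⟨56, by decide +kernel⟩).val := by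
    rw [hρ, show (SS).ρ ⟨56, by decide +kernel⟩ = (⟨36, by decide +kernel⟩ : Fin (TT).n) from
      Fin.ext (show (GR).ρ 56 = 36 by decide +kernel)]
  have main : ∀ j < 6,
      (TT).co (w ⟨46, by decide +kernel⟩).val j = (TT).co 46 j ∧
      (TT).co (w ⟨39, by decide +kernel⟩).val j = (TT).co 39 j ∧
      (TT).co (w ⟨42, by decide +kernel⟩).val j + (TT).co ((GR).ρ (w ⟨42, by decide +kernel⟩).val) j =
        (TT).co 42 j + (TT).co 37 j ∧
      (TT).co (w ⟨56, by decide +kernel⟩).val j + (TT).co ((GR).ρ (w ⟨56, by decide +kernel⟩).val) j =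
        (TT).co 56 j + (TT).co 36 j := by
    intro j hj
    have h1 := hS ⟨71, by decide +kernel⟩ j hj
    have h2 := hS ⟨70, by decide +kernel⟩ j hj
    have h3 := hS ⟨69, by decide +kernel⟩ j hj
    have h4 := hS ⟨65, by decide +kernel⟩ j hj
    have k1 : (TT).co 71 0 = 1 ∧ (TT).co 71 1 = 2 ∧ (TT).co 71 2 = 2 ∧ (TT).co 71 3 = 3 ∧
        (TT).co 71 4 = 2 ∧ (TT).co 71 5 = 1 := by decide +kernel
    have k2 : (TT).co 70 0 = 1 ∧ (TT).co 70 1 = 1 ∧ (TT).co 70 2 = 2 ∧ (TT).co 70 3 = 3 ∧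
        (TT).co 70 4 = 2 ∧ (TT).co 70 5 = 1 := by decide +kernel
    have k3 : (TT).co 69 0 = 1 ∧ (TT).co 69 1 = 1 ∧ (TT).co 69 2 = 2 ∧ (TT).co 69 3 = 2 ∧
        (TT).co 69 4 = 2 ∧ (TT).co 69 5 = 1 := by decide +kernel
    have k4 : (TT).co 65 0 = 1 ∧ (TT).co 65 1 = 1 ∧ (TT).co 65 2 = 1 ∧ (TT).co 65 3 = 2 ∧
        (TT).co 65 4 = 1 ∧ (TT).co 65 5 = 1 := by decide +kernel
    obtain ⟨a0, a1, a2, a3, a4, a5⟩ := k1
    obtain ⟨b0, b1, b2, b3, b4, b5⟩ := k2
    obtain ⟨c0, c1, c2, c3, c4, c5⟩ := k3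
    obtain ⟨d0, d1, d2, d3, d4, d5⟩ := k4
    simp only [e71, e70, e69, e65, a0, a1, a2, a3, a4, a5, b0, b1, b2, b3, b4, b5, c0, c1, c2, c3, c4, c5,
      d0, d1, d2, d3, d4, d5, hρ37, hρ36] at h1 h2 h3 h4
    have k5 : ∀ j < 6, (TT).co 71 j = (TT).co 70 j + (TT).co 46 j ∧
        (TT).co 70 j = (TT).co 69 j + (TT).co 39 j ∧
        (TT).co 69 j = (TT).co 65 j + ((TT).co 42 j + (TT).co 37 j) ∧
        (TT).co 65 j = (TT).co 56 j + (TT).co 36 j + (TT).co 46 j + 2 * (TT).co 39 j +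
          ((TT).co 42 j + (TT).co 37 j) := by decide +kernel
    obtain ⟨f1, f2, f3, f4⟩ := k5 j hj
    refine ⟨by omega, by omega, by omega, by omega⟩
  have hw1 : w = 1 := by
    refine eq_one_of_pos hT hWP fun i => ?_
    rw [hh]
    have one : ∀ r < 72, ((∀ j < 6, (TT).co r j = (TT).co 46 j) → 36 ≤ r) ∧
        ((∀ j < 6, (TT).co r j = (TT).co 39 j) → 36 ≤ r) ∧
        ((∀ j < 6, (TT).co r j + (TT).co ((GR).ρ r) j = (TT).co 42 j + (TT).co 37 j) →
          36 ≤ r ∧ 36 ≤ (GR).ρ r) ∧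
        ((∀ j < 6, (TT).co r j + (TT).co ((GR).ρ r) j = (TT).co 56 j + (TT).co 36 j) →
          36 ≤ r ∧ 36 ≤ (GR).ρ r) := by decide +kernel
    have w46 := (one _ (hn ▸ (w _).2)).1 fun j hj => (main j hj).1
    have w39 := (one _ (hn ▸ (w _).2)).2.1 fun j hj => (main j hj).2.1
    have w42 := (one _ (hn ▸ (w _).2)).2.2.1 fun j hj => (main j hj).2.2.1
    have w56 := (one _ (hn ▸ (w _).2)).2.2.2 fun j hj => (main j hj).2.2.2
    have hcase : ∀ i : Fin 6, i = 0 ∨ i = 1 ∨ i = 2 ∨ i = 3 ∨ i = 4 ∨ i = 5 := by decide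
    rcases hcase i with rfl | rfl | rfl | rfl | rfl | rfl
    · exact w56.1
    · exact w46
    · exact w42.1
    · exact w39
    · show 36 ≤ (w ⟨37, _⟩).val
      rw [hρ37]; exact w42.2
    · show 36 ≤ (w ⟨36, _⟩).val
      rw [hρ36]; exact w56.2
  subst hw1
  rw [e]
  refine mul_mem (mul_mem (Subgroup.mem_sup_left ?_) (Subgroup.mem_sup_right
    (mem_diag_of_mono_one hT hnN hm))) (Subgroup.mem_sup_left ?_) <;>
    rw [posUnipotent_rootGen hT, hh]
  · exact ha
  · exact huU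

/-- A short fundamental root of a torus element commuting with everything. -/
theorem char_one {χ : ℕ → Kˣ} (hχ : (TT).IsChar χ) (hd : CommAll hq hK ((TT).dU χ)) {a s v : ℕ} {N : ℤ}
    (ha : a < 72 ∧ 36 ≤ a ∧ (GR).ρ a ≠ a ∧ 36 ≤ (GR).ρ a ∧ (GR).ε a = 1)
    (hs : s < 72 ∧ v < 72 ∧ 36 ≤ s ∧ 36 ≤ v ∧ a ≠ s ∧ (GR).ρ s = s ∧ (N = 1 ∨ N = -1) ∧
      (TT).commT s a = [(v, N, 1, 1)])
    (hP : (GR).ρ a = s ∨ ∀ c ∈ (TT).commT s ((GR).ρ a), qv v c.1) : χ a = 1 := by
  obtain ⟨ha', hap, hρ, hbp, hε⟩ := ha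
  obtain ⟨hs', hv, hsp, hvp, hne, hρs, hN, hc⟩ := hs
  have hb := (rho_lt a ha').1
  set X : GL (TT).I K := E hq hK a 1 with hX
  have h1 := cen_all s hs' hρs _ (hd.conj (E_fix hq hK ha' hρ 1) (by rw [E_phi hq hK ha', map_one])) 1
    (Or.inl rfl)
  have h2 := cen_all s hs' hρs _ hd 1 (Or.inl rfl)
  have e : X⁻¹ * (TT).dU χ * X * ((TT).dU χ)⁻¹ =
      1 * xx a ((χ a : K) - 1) * xx ((GR).ρ a) ((χ ((GR).ρ a) : K) - 1) := by
    have k1 : ∀ r < 72, (TT).dU χ * xx r 1 = xx r (χ r : K) * (TT).dU χ := fun r hr => by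
      rw [dU_conj_X Data.E6.valid hχ (hn ▸ hr), mul_one]
    rw [hX, E, map_one, hε, Int.cast_one, one_mul, mul_inv_rev, x_inv ha', x_inv hb, one_mul]
    calc xx ((GR).ρ a) (-1) * xx a (-1) * (TT).dU χ * (xx a 1 * xx ((GR).ρ a) 1) * ((TT).dU χ)⁻¹
        = xx ((GR).ρ a) (-1) * xx a (-1) * ((TT).dU χ * xx a 1) * xx ((GR).ρ a) 1 * ((TT).dU χ)⁻¹ := by
          group
      _ = xx ((GR).ρ a) (-1) * (xx a (-1) * xx a (χ a : K)) *
          ((TT).dU χ * xx ((GR).ρ a) 1) * ((TT).dU χ)⁻¹ := by rw [k1 a ha']; group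
      _ = xx ((GR).ρ a) (-1) * xx a ((χ a : K) - 1) * xx ((GR).ρ a) (χ ((GR).ρ a) : K) := by
          rw [k1 _ hb, x_add ha', neg_add_eq_sub]; group
      _ = _ := by
        rw [← (pair_comm ha' hρ _ _).eq, mul_assoc, x_add hb, neg_add_eq_sub]
  have hcom : Commute (1 * xx a ((χ a : K) - 1) * xx ((GR).ρ a) ((χ ((GR).ρ a) : K) - 1)) (xx s 1 * 1) := by
    rw [mul_one, ← e]
    exact h1.mul_left h2.inv_left
  have k := coord (P := fun w => w = (GR).ρ a) (fun w e' => e' ▸ hbp) ha' hs' hv ⟨hap, hsp, hvp, hne⟩ hN hc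
    (fun w _ e' => e' ▸ hP) one_ne_zero (one_mem _)
    (xU_mem_rootGen (P := fun w => w = (GR).ρ a) (hn ▸ hb) rfl _) (one_mem _) (fun w _ _ u => by simp [CM])
    hcom
  exact Units.ext (sub_eq_zero.mp k)

theorem eq_one_of_commAll {d : GL (TT).I K} (hd : CommAll hq hK d) (hf : d ∈ (SS).fix) : d = 1 := by
  have hT := Data.E6.valid
  set c : GL (TT).I K := nj 0 * nj 1 * nj 2 * nj 3 with hc
  set w0 : GL (TT).I K := c ^ 6 with hw0
  have hcf : c ∈ (SS).fix ∧ φ c = c := by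
    have k := fun j (hj : j < 4) => nj_fix hq hK (K := K) hj
    exact ⟨mul_mem (mul_mem (mul_mem (k 0 (by norm_num)).1 (k 1 (by norm_num)).1) (k 2 (by norm_num)).1)
      (k 3 (by norm_num)).1, by
      simp only [hc, map_mul, (k 0 (by norm_num)).2, (k 1 (by norm_num)).2, (k 2 (by norm_num)).2,
        (k 3 (by norm_num)).2]⟩
  have hwf : w0 ∈ (SS).fix := pow_mem hcf.1 6
  have hwφ : φ w0 = w0 := by rw [hw0, map_pow, hcf.2]
  have hdB := mem_borel_of_commute hd hf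
  have hdB' := mem_borel_of_commute (hd.conj hwf hwφ) (mul_mem (mul_mem (inv_mem hwf) hf) hwf)
  obtain ⟨p0, m0, q0⟩ := mono_nj (K := K) (show 0 < 4 by norm_num)
  obtain ⟨p1, m1, q1⟩ := mono_nj (K := K) (show 1 < 4 by norm_num)
  obtain ⟨p2, m2, q2⟩ := mono_nj (K := K) (show 2 < 4 by norm_num)
  obtain ⟨p3, m3, q3⟩ := mono_nj (K := K) (show 3 < 4 by norm_num)
  have hmc : (TT).Mono c (p0 * p1 * p2 * p3) := ((m0.mul m1).mul m2).mul m3
  have hmp : ∀ k : ℕ, (TT).Mono (c ^ k) ((p0 * p1 * p2 * p3) ^ k) := fun k => by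
    induction k with
    | zero => simpa using Mono.one (T := TT) (F := K)
    | succ k ih => rw [pow_succ, pow_succ]; exact ih.mul hmc
  obtain ⟨a', ha', χ', hχ', e'⟩ := (mem_borel_iff hT).mp hdB'
  rw [posUnipotent_rootGen hT] at ha'
  have hwN : w0 ∈ (TT).datum.monomialSubgroup K :=
    pow_mem (mul_mem (mul_mem (mul_mem (nj_monomial (by norm_num)) (nj_monomial (by norm_num)))
      (nj_monomial (by norm_num))) (nj_monomial (by norm_num))) 6
  have hdd : d ∈ (TT).datum.negUnipotent K ⊔ (TT).datum.diagonalSubgroup K := by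
    have ed : d = w0 * a' * w0⁻¹ * (w0 * χ' * w0⁻¹) := by
      calc d = w0 * (w0⁻¹ * d * w0) * w0⁻¹ := by group
        _ = _ := by rw [e']; group
    rw [ed]
    refine mul_mem (Subgroup.mem_sup_left ?_) (Subgroup.mem_sup_right (conj_diag hT hwN hχ'))
    rw [negUnipotent_rootGen hT]
    refine conj_mem_rootGen hT (hmp 6) (fun s hs => ?_) ha'
    rw [hh] at hs ⊢
    have k : ∀ s < 72, 36 ≤ s → (fun x => act 0 (act 1 (act 2 (act 3 x))))^[6] s < 36 := by decide +kernel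
    have k2 : ∀ (m : ℕ) (t : Fin (TT).n), (((p0 * p1 * p2 * p3) ^ m) t).val =
        (fun x => act 0 (act 1 (act 2 (act 3 x))))^[m] t.val := by
      intro m
      induction m with
      | zero => intro t; simp
      | succ m ih =>
        intro t
        rw [pow_succ, Equiv.Perm.mul_apply, ih, Function.iterate_succ_apply]
        simp [Equiv.Perm.mul_apply, q0, q1, q2, q3]
    rw [k2]
    exact k s.val (hn ▸ s.2) hs
  have hdiag : d ∈ (TT).datum.diagonalSubgroup K := by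
    rw [← borel_inf_negDiag hT]
    exact ⟨hdB, hdd⟩
  obtain ⟨χ, hχ, rfl⟩ := diag_exists_char hT hdiag
  have hlong : ∀ s < 72, (GR).ρ s = s → χ s = 1 := fun s hs hρ => by
    have k := dU_conj_X (F := K) hT hχ (r := s) (hn ▸ hs) 1
    rw [(cen_all s hs hρ _ hd 1 (Or.inl rfl)).eq, mul_one] at k
    exact Units.ext (xU_inj hT (hn ▸ hs) (mul_right_cancel k)).symm
  refine dU_eq_one_of_simple hT hχ fun i hi => ?_
  have hcase : ∀ i < 6, i = 0 ∨ i = 1 ∨ i = 2 ∨ i = 3 ∨ i = 4 ∨ i = 5 := by omega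
  rcases hcase i hi with rfl | rfl | rfl | rfl | rfl | rfl
  · rw [show (TT).simple 0 = 56 by decide +kernel]
    exact char_one hχ hd (s := 44) (v := 59) (N := 1) (by decide +kernel) (by decide +kernel) (by decide +kernel)
  · exact hlong _ (by decide +kernel) (by decide +kernel)
  · rw [show (TT).simple 2 = 42 by decide +kernel]
    exact char_one hχ hd (s := 39) (v := 43) (N := 1) (by decide +kernel) (by decide +kernel) (by decide +kernel)
  · exact hlong _ (by decide +kernel) (by decide +kernel)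
  · rw [show (TT).simple 4 = 37 by decide +kernel]
    exact char_one hχ hd (s := 39) (v := 40) (N := -1) (by decide +kernel) (by decide +kernel) (by decide +kernel)
  · rw [show (TT).simple 5 = 36 by decide +kernel]
    exact char_one hχ hd (s := 44) (v := 45) (N := -1) (by decide +kernel) (by decide +kernel) (by decide +kernel)

end CfsgLib.KnownA.E6Sub
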