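import Cfsg.Agent.Lib.KnownA.E6Sub.Upper

/-!
Every conjugate of the long root element in a proper overgroup of the points over the subfield is one
of these points.
-/

set_option autoImplicit false
set_option maxRecDepth 20000
set_option Elab.async false
set_option linter.unusedSectionVars false

namespace CfsgLib.KnownA.E6Sub

open CfsgLib.Chevalley CfsgLib.Chevalley.Tbl

variable {K : Type*} [Field K] [Finite K] {q : ℕ} {hq : IsPrimePow q} {hK : Nat.card K = q ^ 2}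

local notation "TT" => Data.E6.tbl
local notation "xx" => Data.E6.tbl.xU K
local notation "GR" => Data.E6.graph
local notation "σ" => Twist.E6.fq hq hK
local notation "SS" => AbSetup.S (Twist.E6.setup hq hK)
local notation "φ" => phi hq hK
local notation "UU" => Tbl.rootGen Data.E6.tbl K (fun r => 36 ≤ r)

variable {H : Subgroup (GL (Data.E6.tbl).I K)}

/-- The positive roots outside a fundamental orbit. -/
abbrev off (a : ℕ) : ℕ → Prop := fun s =>
  36 ≤ s ∧ s ≠ a ∧ s ≠ Data.E6.graph.ρ a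

theorem ht_gt {a : ℕ} (ha : (TT).ht a = 1) {r s : ℕ} (hr : r < 72) (hp : 36 ≤ r) (hs : s < 72)
    (hsp : 36 ≤ s) {c : ℕ × ℤ × ℕ × ℕ} (hc : c ∈ (TT).commT r s) : c.1 ≠ a := by
  obtain ⟨-, -, -, -, h5⟩ := grow r hr hp s hs hsp c hc
  have k : ∀ w < 72, 36 ≤ w → 1 ≤ (TT).ht w := by decide +kernel
  have := k s hs hsp
  intro e
  rw [e, ha] at h5
  omega

theorem up_off {a : ℕ} (ha : (TT).ht a = 1 ∧ (TT).ht ((GR).ρ a) = 1) : Up (off a) :=
  ⟨fun _ h => h.1, fun r hr hp s hs h c hc =>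
    ⟨(grow r hr hp s hs h.1 c hc).1, ht_gt ha.1 hr hp hs h.1 hc, ht_gt ha.2 hr hp hs h.1 hc⟩⟩

theorem up_ne {a : ℕ} (ha : (TT).ht a = 1) : Up (fun s => 36 ≤ s ∧ s ≠ a) :=
  ⟨fun _ h => h.1, fun r hr hp s hs h c hc =>
    ⟨(grow r hr hp s hs h.1 c hc).1, ht_gt ha hr hp hs h.1 hc⟩⟩

theorem nj_off {j a : ℕ} (hj : j < 4) (hP : ∀ s < 72, off a s → 36 ≤ act j s) {g : GL (TT).I K}
    (hg : g ∈ (TT).rootGen K (off a)) : nj j * g * (nj j)⁻¹ ∈ UU := by
  obtain ⟨w, hm, hw⟩ := mono_nj (K := K) hj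
  refine conj_mem_rootGen Data.E6.valid hm (fun s hs => ?_) hg
  show 36 ≤ (w s).val
  rw [hw]
  exact hP s.val (hn ▸ s.2) hs

theorem top_commute {g : GL (TT).I K} (hg : g ∈ UU) (c : K) : Commute (xx 71 c) g := by
  refine Overgroup.central_commute Data.E6.valid Data.E6.chkComm (show 71 < (TT).n by rw [hn]; norm_num)
    (by rw [hh]; norm_num) (fun s hs hp c hc => ?_) c (by rwa [hh])
  have k : ∀ s < 72, 36 ≤ s → (TT).commT 71 s = [] := by decide +kernel
  rw [k s (hn ▸ hs) (hh ▸ hp)] at hc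
  exact absurd hc (by simp)

/-- A fixed conjugate of a root element, moved back by the reflection of an orbit. -/
theorem fixed_of_moved {j r r' : ℕ} (hj : j < 4) (hr : r < 72) (hact : act j r = r') {x u : GL (TT).I K}
    {c : K} (hx : φ x = x)
    (h : φ (nj j * u * (nj j)⁻¹ * xx r' ((sgn j r : K) * c) * (nj j * u * (nj j)⁻¹)⁻¹) =
      nj j * u * (nj j)⁻¹ * xx r' ((sgn j r : K) * c) * (nj j * u * (nj j)⁻¹)⁻¹) :
    φ (x * u * xx r c * (x * u)⁻¹) = x * u * xx r c * (x * u)⁻¹ := by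
  rw [← hact, ← nj_conj hj hr, show nj j * u * (nj j)⁻¹ * (nj j * xx r c * (nj j)⁻¹) *
      (nj j * u * (nj j)⁻¹)⁻¹ = nj j * (u * xx r c * u⁻¹) * (nj j)⁻¹ by group] at h
  rw [show x * u * xx r c * (x * u)⁻¹ = x * (u * xx r c * u⁻¹) * x⁻¹ by group]
  refine conj_of_fixed hx ?_
  rw [map_mul, map_mul, map_inv, (nj_fix hq hK hj).2] at h
  exact mul_left_cancel (mul_right_cancel h)

/-- The conjugates of a root element at a root known to be fixed in a proper overgroup. -/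
def Fixes (hq : IsPrimePow q) (hK : Nat.card K = q ^ 2) (H : Subgroup (GL (Data.E6.tbl).I K)) (r : ℕ) :
    Prop :=
  ∀ c : K, Twist.E6.fq hq hK c = c → c ≠ 0 → ∀ u ∈ Tbl.rootGen Data.E6.tbl K (fun r => 36 ≤ r),
    u ∈ (AbSetup.S (Twist.E6.setup hq hK)).fix → u * Data.E6.tbl.xU K r c * u⁻¹ ∈ H →
      phi hq hK (u * Data.E6.tbl.xU K r c * u⁻¹) = u * Data.E6.tbl.xU K r c * u⁻¹

theorem Over.fixes_pos (h : Over hq hK H) (hH : H ≠ (SS).fix) {r : ℕ} (hr : r < 72 ∧ 36 ≤ r) :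
    Fixes hq hK H r :=
  fun c _ _ u hu _ hY => h.pos_fixed hH hY (mul_mem (mul_mem hu (x_U hr.1 hr.2 c)) (inv_mem hu))

theorem Over.apply_step (h : Over hq hK H) {j a r r' : ℕ}
    (hj : j < 4 ∧ r < 72 ∧ act j r = r') (hP : ∀ s < 72, off a s → 36 ≤ act j s)
    (ih : Fixes hq hK H r') {c : K} (hc : σ c = c) (hc0 : c ≠ 0) {x u : GL (TT).I K}
    (hxf : x ∈ (SS).fix) (hxφ : φ x = x) (hu : u ∈ (TT).rootGen K (off a)) (huf : u ∈ (SS).fix)
    (hY : x * u * xx r c * (x * u)⁻¹ ∈ H) :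
    φ (x * u * xx r c * (x * u)⁻¹) = x * u * xx r c * (x * u)⁻¹ := by
  obtain ⟨hj, hr, hact⟩ := hj
  refine fixed_of_moved hj hr hact hxφ (ih _ ?_ ?_ _ (nj_off hj hP hu)
    (mul_mem (mul_mem (nj_fix hq hK hj).1 huf) (inv_mem (nj_fix hq hK hj).1)) ?_)
  · rw [map_mul, map_intCast, hc]
  · rcases (act_rho j hj r hr).2.2.2.2 with e | e <;> simp [e, hc0]
  · rw [← hact, ← nj_conj hj hr,
      show nj j * u * (nj j)⁻¹ * (nj j * xx r c * (nj j)⁻¹) * (nj j * u * (nj j)⁻¹)⁻¹ =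
        nj j * (x⁻¹ * (x * u * xx r c * (x * u)⁻¹) * x) * (nj j)⁻¹ by group]
    exact mul_mem (mul_mem (h.nj_mem hj)
      (mul_mem (mul_mem (inv_mem (h.ge x hxf hxφ)) hY) (h.ge x hxf hxφ))) (inv_mem (h.nj_mem hj))

/-- Raising a root by a long fundamental reflection. -/
theorem Over.fixes_long (h : Over hq hK H) {j a r r' : ℕ}
    (hj : j < 4 ∧ r < 72 ∧ act j r = r') (ha : a < 72 ∧ 36 ≤ a ∧ (GR).ρ a = a ∧ (TT).ht a = 1)
    (hP : ∀ s < 72, off a s → 36 ≤ act j s) (ih : Fixes hq hK H r') : Fixes hq hK H r := by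
  intro c hc hc0 g hg hgf hY
  obtain ⟨ha', hap, hρ, hht⟩ := ha
  obtain ⟨y, hy, u, hu, huf, rfl⟩ := split_long (up_off ⟨hht, hρ.symm ▸ hht⟩) ha' hap hρ
    (fun e => e.2.1 rfl) (fun s hs e => ⟨(rk_rho s hs e.1).1, fun e' => e.2.1 (by
      have := (rho_lt s hs).2.1; rw [e', hρ] at this; exact this.symm), fun e' => e.2.1 (by
      have := (rho_lt s hs).2.1; rw [e', hρ, hρ] at this; exact this.symm)⟩)
    (fun s _ e => by
      by_cases e' : s = a
      · exact Or.inl e'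
      · exact Or.inr ⟨e, e', hρ.symm ▸ e'⟩) hg hgf
  exact h.apply_step hj hP ih hc hc0 (long_fix hq hK ha' hρ hy) (long_phi hq hK ha' hy) hu huf hY

/-- Raising a root by a short fundamental reflection. -/
theorem Over.fixes_short (h : Over hq hK H) (hH : H ≠ (SS).fix) {j a r r' s v : ℕ} {M N : ℤ}
    (hj : j < 4 ∧ r < 72 ∧ act j r = r')
    (ha : a < 72 ∧ 36 ≤ a ∧ 36 ≤ (GR).ρ a ∧ (GR).ρ a ≠ a ∧ (TT).ht a = 1 ∧ (TT).ht ((GR).ρ a) = 1)
    (hP : ∀ w < 72, off a w → 36 ≤ act j w)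
    (hs : s < 72 ∧ v < 72 ∧ 36 ≤ s ∧ 36 ≤ v ∧ a ≠ s ∧ r ≠ 71 ∧ 71 ≠ (TT).neg r ∧
      (M = 1 ∨ M = -1) ∧ (N = 1 ∨ N = -1) ∧
      (TT).commT r 71 = [(s, M, 1, 1)] ∧ (TT).commT s a = [(v, N, 1, 1)])
    (hPs : ∀ w < 72, 36 ≤ w → w = a ∨ w = s ∨ ∀ c ∈ (TT).commT s w, qv v c.1)
    (ih : Fixes hq hK H r') : Fixes hq hK H r := by
  intro c hc hc0 g hg hgf hY
  obtain ⟨ha', hap, hap', hρ, hht, hht'⟩ := ha
  obtain ⟨hs', hv, hsp, hvp, hne, hr71, hneg, hM, hN, hc1, hc2⟩ := hs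
  obtain ⟨hb, hbb, -⟩ := rho_lt a ha'
  obtain ⟨t, u, hu, huf, e⟩ := split_short (up_off ⟨hht, hht'⟩) ha' ⟨hap, hap'⟩ hρ (fun k => k.2.1 rfl)
    (fun w hw k => ⟨(rk_rho w hw k.1).1, fun k' => k.2.2 (by
      have := (rho_lt w hw).2.1; rw [k'] at this; exact this.symm), fun k' => k.2.1 (by
      have := (rho_lt w hw).2.1; rw [k', hbb] at this; exact this.symm)⟩)
    (⟨fun w k => k.elim (fun k => k.1) (fun k => k ▸ hap'), fun x hx hxp w hw k c hc => Or.inl (by
      have hwp : 36 ≤ w := k.elim (fun k => k.1) (fun k => k ▸ hap')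
      exact ⟨(grow x hx hxp w hw hwp c hc).1, ht_gt hht hx hxp hw hwp hc, ht_gt hht' hx hxp hw hwp hc⟩)⟩)
    (fun w _ k => by
      by_cases k1 : w = a
      · exact Or.inl k1
      by_cases k2 : w = (GR).ρ a
      · exact Or.inr (Or.inl k2)
      · exact Or.inr (Or.inr ⟨k, k1, k2⟩)) hg hgf
  have hr := hj.2.1
  set c' : K := (M : K) * -c with hc'
  have h71 : xx 71 (1 : K) ∈ H := h.long (by norm_num) (by decide +kernel) (map_one _)
  have hR : g * xx s c' * g⁻¹ ∈ H := by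
    have e1 : xx s c' = (xx 71 (1 : K))⁻¹ * (xx r c)⁻¹ * xx 71 1 * xx r c := by
      have k := comm_xU (F := K) Data.E6.valid Data.E6.chkComm (r := r) (s := 71) (hn ▸ hr)
        (by rw [hn]; norm_num) (Ne.symm hr71) hneg c 1
      rw [hc1] at k
      simp only [List.map_cons, List.map_nil, List.prod_cons, List.prod_nil, mul_one, pow_one, ← hc'] at k
      rw [mul_assoc ((xx 71 1)⁻¹ * (xx r c)⁻¹), k]
      group
    have := mul_mem (mul_mem (mul_mem (inv_mem h71) (inv_mem hY)) h71) hY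
    convert this using 1
    rw [e1]
    have c1 : Commute (xx 71 1) g := top_commute hg 1
    calc g * ((xx 71 1)⁻¹ * (xx r c)⁻¹ * xx 71 1 * xx r c) * g⁻¹
        = (g * (xx 71 1)⁻¹) * (xx r c)⁻¹ * (g⁻¹ * g * xx 71 1) * xx r c * g⁻¹ := by group
      _ = ((xx 71 1)⁻¹ * g) * (xx r c)⁻¹ * (g⁻¹ * (xx 71 1 * g)) * xx r c * g⁻¹ := by
        rw [c1.inv_left.eq, mul_assoc g⁻¹ g, c1.eq]
      _ = _ := by group
  have hfix := h.pos_fixed hH hR (mul_mem (mul_mem hg (x_U hs' hsp c')) (inv_mem hg))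
  have hσc' : σ c' = c' := by rw [hc', map_mul, map_intCast, map_neg, hc]
  rw [map_mul, map_mul, map_inv, long_phi hq hK hs' hσc'] at hfix
  have hd : Commute (g⁻¹ * φ g) (xx s c') := by
    show _ = _
    calc g⁻¹ * φ g * xx s c' = g⁻¹ * (φ g * xx s c' * (φ g)⁻¹) * φ g := by group
      _ = _ := by rw [hfix]; group
  set δ := σ t - t with hδ
  have e' : g⁻¹ * φ g = u⁻¹ * xx a δ * (xx ((GR).ρ a) (((GR).ε a : K) * σ δ) * φ u) := by
    rw [e, map_mul, E_phi hq hK ha', mul_inv_rev, E_inv hq hK ha' hρ, mul_assoc u⁻¹,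
      ← mul_assoc (E hq hK a (-t)), E_add hq hK ha' hρ, neg_add_eq_sub, ← hδ, E]
    simp only [mul_assoc]
  rw [e'] at hd
  have hm : (TT).rootGen K (off a) ≤ (TT).rootGen K (fun w => 36 ≤ w ∧ w ≠ a) :=
    rootGen_mono fun w _ k => ⟨k.1, k.2.1⟩
  have ht0 : δ = 0 := by
    refine coord (P := fun w => 36 ≤ w ∧ w ≠ a) (fun w k => k.1) ha' hs' hv ⟨hap, hsp, hvp, hne⟩ hN hc2
      (fun w hw k => (hPs w hw k.1).resolve_left k.2) (t := c')
      (by rcases hM with e | e <;> simp [hc', e, hc0]) (hm (inv_mem hu))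
      (mul_mem (xU_mem_rootGen (P := fun w => 36 ≤ w ∧ w ≠ a) (hn ▸ hb) ⟨hap', hρ⟩ _)
        (hm (map_rootGen hu))) (one_mem _) (fun w _ _ u => by simp [CM]) (by rwa [mul_one])
  have hσ : σ t = t := sub_eq_zero.mp ht0
  rw [e] at hY ⊢
  exact h.apply_step hj hP ih hc hc0 (E_fix hq hK ha' hρ t) (by rw [E_phi hq hK ha', hσ]) hu huf hY

/-- Every conjugate of the long root element in a proper overgroup is fixed by the field map. -/
theorem Over.conj_top_fixed (h : Over hq hK H) (hH : H ≠ (SS).fix) {g : GL (TT).I K} (hg : g ∈ H) :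
    φ (g * xx 71 1 * g⁻¹) = g * xx 71 1 * g⁻¹ := by
  obtain ⟨a, ha, haf, n, hnN, hnf, w, hw, hm, u, hu, huf, e⟩ := (SS).fix_canonical (h.le hg)
  rw [hh] at ha
  have huU : u ∈ UU := rootGen_mono (fun s _ ⟨_, hp, _⟩ => hh ▸ hp) hu
  have c71 : Commute (xx 71 1) u := top_commute huU 1
  obtain ⟨d, hd⟩ := hm.conj ⟨71, by decide +kernel⟩
  have hn71 : n * xx 71 1 * n⁻¹ = xx (w ⟨71, by decide +kernel⟩).val (d : K) := by
    rw [(hd 1).1, mul_inv_cancel_right, mul_one]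
  have hρw : (GR).ρ (w ⟨71, by decide +kernel⟩).val = (w ⟨71, by decide +kernel⟩).val := by
    have h1 := ((SS).mem_W1_iff.mp hw).2
    rw [mul_inv_eq_iff_eq_mul] at h1
    have h2 := congrArg (fun p : Equiv.Perm (Fin (TT).n) => p ⟨71, by decide +kernel⟩) h1
    have h3 : (SS).ρ ⟨71, by decide +kernel⟩ = (⟨71, by decide +kernel⟩ : Fin (TT).n) :=
      Fin.ext (show (GR).ρ 71 = 71 by decide +kernel)
    simp only [Equiv.Perm.mul_apply, h3] at h2
    exact congrArg Fin.val h2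
  have hrlt : (w ⟨71, by decide +kernel⟩).val < 72 := hn ▸ (w ⟨71, by decide +kernel⟩).2
  have hd' : σ (d : K) = d := by
    refine long_fix_iff hq hK hrlt hρw ?_
    rw [← hn71]
    exact mul_mem (mul_mem hnf (long_fix hq hK (show 71 < 72 by norm_num) (by decide +kernel) (map_one _)))
      (inv_mem hnf)
  have eY : g * xx 71 1 * g⁻¹ = a * xx (w ⟨71, by decide +kernel⟩).val (d : K) * a⁻¹ := by
    rw [e, ← hn71]
    calc a * n * u * xx 71 1 * (a * n * u)⁻¹ = a * n * (u * xx 71 1 * u⁻¹) * n⁻¹ * a⁻¹ := by group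
      _ = a * n * xx 71 1 * n⁻¹ * a⁻¹ := by rw [← c71.eq, mul_inv_cancel_right]
      _ = _ := by group
  have hmem : a * xx (w ⟨71, by decide +kernel⟩).val (d : K) * a⁻¹ ∈ H := by
    rw [← eY]
    exact mul_mem (mul_mem hg (h.long (show 71 < 72 by norm_num) (by decide +kernel) (map_one _))) (inv_mem hg)
  rw [eY]
  generalize (w ⟨71, by decide +kernel⟩).val = r at hρw hrlt hmem ⊢
  suffices hk : Fixes hq hK H r from hk _ hd' d.ne_zero a ha haf hmem
  by_cases hp : 36 ≤ r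
  · exact h.fixes_pos hH ⟨hrlt, hp⟩
  have f46 := h.fixes_pos hH (r := 46) (by norm_num)
  have f25 : Fixes hq hK H 25 := h.fixes_long (j := 0) (a := 46) (by decide +kernel) (by decide +kernel)
    (by decide +kernel) f46
  have f24 : Fixes hq hK H 24 := h.fixes_long (j := 1) (a := 39) (by decide +kernel) (by decide +kernel)
    (by decide +kernel) f25
  have f20 : Fixes hq hK H 20 := h.fixes_short hH (j := 3) (a := 42) (s := 65) (v := 68) (M := -1) (N := -1)
    (by decide +kernel) (by decide +kernel) (by decide +kernel) (by decide +kernel) (by decide +kernel) f24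
  have f8 : Fixes hq hK H 8 := h.fixes_short hH (j := 2) (a := 56) (s := 53) (v := 64) (M := -1) (N := 1)
    (by decide +kernel) (by decide +kernel) (by decide +kernel) (by decide +kernel) (by decide +kernel) f20
  have f18 : Fixes hq hK H 18 := h.fixes_long (j := 1) (a := 39) (by decide +kernel) (by decide +kernel)
    (by decide +kernel) f20
  have f6 : Fixes hq hK H 6 := h.fixes_long (j := 1) (a := 39) (by decide +kernel) (by decide +kernel)
    (by decide +kernel) f8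
  have f2 : Fixes hq hK H 2 := h.fixes_short hH (j := 3) (a := 42) (s := 47) (v := 50) (M := 1) (N := -1)
    (by decide +kernel) (by decide +kernel) (by decide +kernel) (by decide +kernel) (by decide +kernel) f6
  have f1 : Fixes hq hK H 1 := h.fixes_long (j := 1) (a := 39) (by decide +kernel) (by decide +kernel)
    (by decide +kernel) f2
  have f11 : Fixes hq hK H 11 := h.fixes_long (j := 0) (a := 46) (by decide +kernel) (by decide +kernel)
    (by decide +kernel) f8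
  have f27 : Fixes hq hK H 27 := h.fixes_long (j := 0) (a := 46) (by decide +kernel) (by decide +kernel)
    (by decide +kernel) f20
  have f32 : Fixes hq hK H 32 := h.fixes_long (j := 0) (a := 46) (by decide +kernel) (by decide +kernel)
    (by decide +kernel) f24
  have f0 : Fixes hq hK H 0 := h.fixes_long (j := 0) (a := 46) (by decide +kernel) (by decide +kernel)
    (by decide +kernel) f1
  have k : ∀ r < 36, (GR).ρ r = r → r ∈ [0, 1, 2, 6, 8, 11, 18, 20, 24, 25, 27, 32] := by decide +kernel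
  have k' := k r (by omega) hρw
  simp only [List.mem_cons, List.not_mem_nil, or_false] at k'
  rcases k' with rfl | rfl | rfl | rfl | rfl | rfl | rfl | rfl | rfl | rfl | rfl | rfl <;> assumption

end CfsgLib.KnownA.E6Sub
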