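import Cfsg.Agent.Lib.KnownA.E6Sub.Basic

/-!
Coordinates in the positive part of ²E₆(q): splitting off an orbit, commutators with root elements
modulo normal sets of roots.
-/

set_option autoImplicit false
set_option maxRecDepth 20000
set_option Elab.async false
set_option linter.unusedSectionVars false

namespace CfsgLib.KnownA.E6Sub

open CfsgLib.Chevalley CfsgLib.Chevalley.Tbl

variable {K : Type*} [Field K] [Finite K] {q : ℕ} (hq : IsPrimePow q) (hK : Nat.card K = q ^ 2)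

local notation "TT" => Data.E6.tbl
local notation "xx" => Data.E6.tbl.xU K
local notation "GR" => Data.E6.graph
local notation "σ" => Twist.E6.fq hq hK
local notation "SS" => AbSetup.S (Twist.E6.setup hq hK)
local notation "UU" => Tbl.rootGen Data.E6.tbl K (fun r => 36 ≤ r)

/-- The position of the orbit of a positive root in the order of elimination. -/
def rk (r : ℕ) : ℕ :=
  [2, 3, 5, 0, 6, 8, 3, 6, 7, 11, 1, 4, 9, 12, 9, 10, 15, 13, 17, 19, 2, 5, 8, 11, 14, 12, 15, 16, 17,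
    18, 20, 19, 20, 21, 22, 23].getD (r - 36) 0

/-- The roots from position `k` on. -/
abbrev rem (k : ℕ) : ℕ → Prop := fun s => 36 ≤ s ∧ k ≤ rk s

/-- The roots of height at least that of `v`, without `v`. -/
abbrev qv (v : ℕ) : ℕ → Prop := fun s =>
  36 ≤ s ∧ Data.E6.tbl.ht v ≤ Data.E6.tbl.ht s ∧ s ≠ v

theorem grow : ∀ r < 72, 36 ≤ r → ∀ s < 72, 36 ≤ s → ∀ c ∈ (TT).commT r s,
    36 ≤ c.1 ∧ rk r < rk c.1 ∧ rk s < rk c.1 ∧ (TT).ht r < (TT).ht c.1 ∧ (TT).ht s < (TT).ht c.1 := by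
  have k : ((List.range' 36 36).all fun r => (List.range' 36 36).all fun s =>
      ((TT).commT r s).all fun c => decide (36 ≤ c.1 ∧ rk r < rk c.1 ∧ rk s < rk c.1 ∧
        (TT).ht r < (TT).ht c.1 ∧ (TT).ht s < (TT).ht c.1)) = true := by decide +kernel
  intro r hr hp s hs hsp c hc
  simp only [List.all_eq_true, List.mem_range'_1, decide_eq_true_eq] at k
  exact k r ⟨hp, hr⟩ s ⟨hsp, hs⟩ c hc

theorem x_U {r : ℕ} (hr : r < 72) (hp : 36 ≤ r) (t : K) : xx r t ∈ UU :=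
  xU_mem_rootGen (P := fun r => 36 ≤ r) (hn ▸ hr) hp t

theorem pos_le {P : ℕ → Prop} (hP : ∀ s, P s → 36 ≤ s) : (TT).rootGen K P ≤ UU :=
  rootGen_mono fun s _ h => hP s h

theorem neg_ne {r s : ℕ} (hr : 36 ≤ r) (hr' : r < 72) (hs : 36 ≤ s) : s ≠ (TT).neg r := by
  have k : ∀ r < 72, 36 ≤ r → (TT).neg r < 36 := by decide +kernel
  have := k r hr' hr
  omega

/-- Sets of positive roots absorbing sums with positive roots. -/
def Up (Q : ℕ → Prop) : Prop :=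
  (∀ s, Q s → 36 ≤ s) ∧ ∀ r < 72, 36 ≤ r → ∀ s < 72, Q s → ∀ c ∈ Data.E6.tbl.commT r s, Q c.1

theorem up_rem (k : ℕ) : Up (rem k) :=
  ⟨fun _ h => h.1, fun r hr hp s hs hQ c hc => by
    obtain ⟨h1, -, h3, -, -⟩ := grow r hr hp s hs hQ.1 c hc
    exact ⟨h1, le_trans hQ.2 h3.le⟩⟩

theorem up_qv (v : ℕ) : Up (qv v) :=
  ⟨fun _ h => h.1, fun r hr hp s hs hQ c hc => by
    obtain ⟨h1, -, -, -, h5⟩ := grow r hr hp s hs hQ.1 c hc
    refine ⟨h1, le_trans hQ.2.1 h5.le, fun e => ?_⟩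
    rw [e] at h5
    exact absurd hQ.2.1 (not_le.mpr h5)⟩

theorem Up.normal {Q : ℕ → Prop} (hQ : Up Q) :
    UU ≤ Subgroup.normalizer ((TT).rootGen K Q : Set (GL (TT).I K)) :=
  rootGen_le fun r hr hp t => xU_mem_normalizer Data.E6.valid Data.E6.chkComm hr
    (fun s hs hQs _ => ⟨neg_ne hp (hn ▸ hr) (hQ.1 s hQs),
      fun c hc => hQ.2 r (hn ▸ hr) hp s (hn ▸ hs) hQs c hc⟩) t

theorem Up.closed {Q : ℕ → Prop} (hQ : Up Q) : (TT).Closed Q :=
  fun r hr s hs hr' hs' _ _ c hc => hQ.2 r (hn ▸ hr) (hQ.1 r hr') s (hn ▸ hs) hs' c hc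

theorem Up.move {Q : ℕ → Prop} (hQ : Up Q) {g z : GL (TT).I K} (hg : g ∈ UU)
    (hz : z ∈ (TT).rootGen K Q) : g * z * g⁻¹ ∈ (TT).rootGen K Q :=
  (Subgroup.mem_normalizer_iff.mp (hQ.normal hg) z).mp hz

/-- A root element outside a closed set of positive roots is trivial. -/
theorem coord_zero {Q : ℕ → Prop} (hQ : (TT).Closed Q) (hQ' : ∀ s, Q s → 36 ≤ s) {r : ℕ}
    (hr : r < 72) (hp : 36 ≤ r) (hnQ : ¬ Q r) {x : K} (hx : xx r x ∈ (TT).rootGen K Q) : x = 0 := by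
  have hs : (TT).Closed (fun s => s = r) := fun a _ b _ ha hb hne => absurd (hb.trans ha.symm) hne
  have h := Overgroup.closed_inter_mem Data.E6.valid Data.E6.chkComm hQ hs
    (fun s h => hh ▸ hQ' s h) (fun s h => hh ▸ h ▸ hp) hx
    (xU_mem_rootGen (P := fun s => s = r) (hn ▸ hr) rfl x)
  have hbot : (TT).rootGen K (fun s => Q s ∧ s = r) ≤ ⊥ :=
    rootGen_le fun s _ h _ => absurd (h.2 ▸ h.1) hnQ
  have h1 : xx r x = 1 := Subgroup.mem_bot.mp (hbot h)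
  rw [← x_zero hr] at h1
  exact xU_inj Data.E6.valid (hn ▸ hr) h1

/-- Splitting off two commuting roots from a normal set. -/
theorem split {P Q : ℕ → Prop} (hQ : Up Q) {r r' : ℕ} (hr : r < 72) (hr' : r' < 72) (hp : 36 ≤ r)
    (hp' : 36 ≤ r') (hc : r' = r ∨ ((TT).commT r r' = [] ∧ r' ≠ r))
    (hP : ∀ s < 72, P s → s = r ∨ s = r' ∨ Q s) {g : GL (TT).I K} (hg : g ∈ (TT).rootGen K P) :
    ∃ a b : K, ∃ g' ∈ (TT).rootGen K Q, g = xx r a * xx r' b * g' := by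
  have hcomm : ∀ u v : K, Commute (xx r u) (xx r' v) := by
    intro u v
    rcases hc with e | ⟨e, hne⟩
    · subst e
      show _ = _
      rw [x_add hr, x_add hr, add_comm]
    · exact commute_xU Data.E6.valid Data.E6.chkComm (hn ▸ hr) (hn ▸ hr') (neg_ne hp hr hp')
        (by rw [e]; simp) u v
  let S : Subgroup (GL (TT).I K) :=
    { carrier := {g | ∃ a b : K, g = xx r a * xx r' b}
      one_mem' := ⟨0, 0, by rw [x_zero hr, x_zero hr', one_mul]⟩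
      mul_mem' := by
        rintro _ _ ⟨a, b, rfl⟩ ⟨c, d, rfl⟩
        refine ⟨a + c, b + d, ?_⟩
        rw [← x_add hr, ← x_add hr', mul_assoc, ← mul_assoc (xx r' b), ← (hcomm c b).eq]
        simp only [mul_assoc]
      inv_mem' := by
        rintro _ ⟨a, b, rfl⟩
        exact ⟨-a, -b, by rw [mul_inv_rev, x_inv hr, x_inv hr', (hcomm (-a) (-b)).eq]⟩ }
  have hS : S ≤ Subgroup.normalizer ((TT).rootGen K Q : Set (GL (TT).I K)) := by
    rintro _ ⟨a, b, rfl⟩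
    exact hQ.normal (mul_mem (x_U hr hp a) (x_U hr' hp' b))
  have hle : (TT).rootGen K P ≤ S ⊔ (TT).rootGen K Q := by
    refine rootGen_le fun s hs hPs t => ?_
    rcases hP s (hn ▸ hs) hPs with e | e | e
    · exact Subgroup.mem_sup_left ⟨t, 0, by rw [e, x_zero hr', mul_one]⟩
    · exact Subgroup.mem_sup_left ⟨0, t, by rw [e, x_zero hr, one_mul]⟩
    · exact Subgroup.mem_sup_right (xU_mem_rootGen hs e t)
  have := hle hg
  rw [← SetLike.mem_coe, Subgroup.coe_mul_of_left_le_normalizer_right _ _ hS] at this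
  obtain ⟨_, ⟨a, b, rfl⟩, y, hy, rfl⟩ := this
  exact ⟨a, b, y, hy, rfl⟩

variable (Q : ℕ → Prop)

/-- Commuting modulo the subgroup of a set of roots. -/
def CM (z y : GL (Data.E6.tbl).I K) : Prop := z * y * z⁻¹ * y⁻¹ ∈ Data.E6.tbl.rootGen K Q

variable {Q}

theorem CM.mul_left (hQ : Up Q) {a b y : GL (TT).I K} (ha : a ∈ UU) (h1 : CM Q a y) (h2 : CM Q b y) :
    CM Q (a * b) y := by
  unfold CM at *
  rw [show a * b * y * (a * b)⁻¹ * y⁻¹ = a * (b * y * b⁻¹ * y⁻¹) * a⁻¹ * (a * y * a⁻¹ * y⁻¹) by group]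
  exact mul_mem (hQ.move ha h2) h1

theorem CM.mul_right (hQ : Up Q) {z a b : GL (TT).I K} (ha : a ∈ UU) (h1 : CM Q z a) (h2 : CM Q z b) :
    CM Q z (a * b) := by
  unfold CM at *
  rw [show z * (a * b) * z⁻¹ * (a * b)⁻¹ = (z * a * z⁻¹ * a⁻¹) * (a * (z * b * z⁻¹ * b⁻¹) * a⁻¹) by group]
  exact mul_mem h1 (hQ.move ha h2)

theorem cm_gen (hQ : Up Q) {b s : ℕ} (hb : b < 72) (hbp : 36 ≤ b) (hs : s < 72) (hsp : 36 ≤ s)
    (h : s = b ∨ ∀ c ∈ (TT).commT b s, Q c.1) (u t : K) : CM Q (xx s u) (xx b t) := by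
  unfold CM
  by_cases e : s = b
  · subst e
    rw [x_add hs, add_comm, ← x_add hs, mul_inv_cancel_right, mul_inv_cancel]
    exact one_mem _
  have h := h.resolve_left e
  rw [comm_xU Data.E6.valid Data.E6.chkComm (hn ▸ hb) (hn ▸ hs) e (neg_ne hbp hb hsp)]
  set R := (((TT).commT b s).map fun c =>
    xx c.1 ((c.2.1 : K) * (-t) ^ c.2.2.1 * u ^ c.2.2.2)).prod with hR
  have hRm : R ∈ (TT).rootGen K Q := by
    refine list_prod_mem fun y hy => ?_
    obtain ⟨c, hc, rfl⟩ := List.mem_map.mp hy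
    exact xU_mem_rootGen (commT_lt Data.E6.valid (hn ▸ hb) (hn ▸ hs) c hc) (h c hc) _
  rw [show xx b t * xx s u * R * (xx s u)⁻¹ * (xx b t)⁻¹ =
      (xx b t * xx s u) * R * (xx b t * xx s u)⁻¹ by group]
  exact hQ.move (mul_mem (x_U hb hbp t) (x_U hs hsp u)) hRm

theorem cm_of_gen (hQ : Up Q) {P : ℕ → Prop} (hP : ∀ s, P s → 36 ≤ s) {y : GL (TT).I K} (hy : y ∈ UU)
    (h : ∀ s < 72, P s → ∀ u, CM Q (xx s u) y) {g : GL (TT).I K} (hg : g ∈ (TT).rootGen K P) :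
    CM Q g y := by
  induction hg using Subgroup.closure_induction with
  | mem z hz => obtain ⟨s, hs, hPs, u, rfl⟩ := hz; exact h s (hn ▸ hs) hPs u
  | one => simp [CM]
  | mul a b ha _ iha ihb => exact iha.mul_left hQ (pos_le hP ha) ihb
  | inv a ha iha =>
    unfold CM at *
    rw [show a⁻¹ * y * a⁻¹⁻¹ * y⁻¹ = a⁻¹ * (a * y * a⁻¹ * y⁻¹)⁻¹ * a⁻¹⁻¹ by group]
    exact hQ.move (inv_mem (pos_le hP ha)) (inv_mem iha)

/-- An element commuting with `x_a(t)·y` has no coordinate at a root with `r + a = v` outside. -/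
theorem coord {P : ℕ → Prop} (hP : ∀ s, P s → 36 ≤ s) {r a v : ℕ} {N : ℤ} (hr : r < 72)
    (ha : a < 72) (hv : v < 72) (hp : 36 ≤ r ∧ 36 ≤ a ∧ 36 ≤ v ∧ r ≠ a)
    (hN : N = 1 ∨ N = -1) (hc : (TT).commT a r = [(v, N, 1, 1)])
    (hPa : ∀ s < 72, P s → s = a ∨ ∀ c ∈ (TT).commT a s, qv v c.1)
    {t δ : K} (ht : t ≠ 0) {g m y : GL (TT).I K} (hg : g ∈ (TT).rootGen K P)
    (hm : m ∈ (TT).rootGen K P) (hy : y ∈ UU)
    (hPy : ∀ s < 72, (P s ∨ s = r) → ∀ u, CM (qv v) (xx s u) y)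
    (hd : Commute (g * xx r δ * m) (xx a t * y)) : δ = 0 := by
  obtain ⟨hp1, hp2, hp3, hne⟩ := hp
  have hQ := up_qv v
  set X := xx a t * y with hX
  have hXU : X ∈ UU := mul_mem (x_U ha hp2 t) hy
  have hall : ∀ z ∈ (TT).rootGen K P, CM (qv v) z X := fun z hz =>
    cm_of_gen hQ hP hXU (fun s hs hPs u =>
      (cm_gen hQ ha hp2 hs (hP s hPs) (hPa s hs hPs) u t).mul_right hQ (x_U ha hp2 t)
        (hPy s hs (Or.inl hPs) u)) hz
  have h1 : CM (qv v) (xx r δ) X := by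
    have hgU := pos_le hP hg
    have hmU := pos_le hP hm
    have hd0 : CM (qv v) (g * xx r δ * m) X := by
      unfold CM
      rw [hd.eq, mul_inv_cancel_right, mul_inv_cancel]
      exact one_mem _
    rw [show xx r δ = g⁻¹ * (g * xx r δ * m) * m⁻¹ by group]
    exact ((hall _ (inv_mem hg)).mul_left hQ (inv_mem hgU) hd0).mul_left hQ
      (mul_mem (inv_mem hgU) (mul_mem (mul_mem hgU (x_U hr hp1 δ)) hmU)) (hall _ (inv_mem hm))
  have h2 : CM (qv v) (xx r δ) (xx a t) := by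
    have hy1 := hPy r hr (Or.inr rfl) δ
    have hmv := hQ.move (x_U ha hp2 t) hy1
    have := mul_mem h1 (inv_mem hmv)
    unfold CM
    rw [hX, show xx r δ * (xx a t * y) * (xx r δ)⁻¹ * (xx a t * y)⁻¹ *
      (xx a t * (xx r δ * y * (xx r δ)⁻¹ * y⁻¹) * (xx a t)⁻¹)⁻¹ =
        xx r δ * xx a t * (xx r δ)⁻¹ * (xx a t)⁻¹ by group] at this
    exact this
  unfold CM at h2
  rw [comm_xU Data.E6.valid Data.E6.chkComm (hn ▸ ha) (hn ▸ hr) hne (neg_ne hp2 ha hp1), hc] at h2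
  simp only [List.map_cons, List.map_nil, List.prod_cons, List.prod_nil, mul_one, pow_one] at h2
  set z := (N : K) * -t * δ with hz
  have h3 : xx v z ∈ (TT).rootGen K (qv v) := by
    have hU : xx a t * xx r δ ∈ UU := mul_mem (x_U ha hp2 t) (x_U hr hp1 δ)
    have := hQ.move (inv_mem hU) h2
    rwa [show (xx a t * xx r δ)⁻¹ * (xx a t * xx r δ * xx v z * (xx r δ)⁻¹ * (xx a t)⁻¹) *
      (xx a t * xx r δ)⁻¹⁻¹ = xx v z by group] at this
  have h4 := coord_zero hQ.closed hQ.1 hv hp3 (fun h => h.2.2 rfl) h3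
  rcases hN with rfl | rfl <;> simpa [hz, ht] using h4

variable {hq hK}

/-- The long coordinate of a fixed element of the positive part. -/
theorem split_long {P Q : ℕ → Prop} (hQ : Up Q) {r : ℕ} (hr : r < 72) (hp : 36 ≤ r)
    (hρ : (GR).ρ r = r) (hnQ : ¬ Q r) (hρQ : ∀ s < 72, Q s → Q ((GR).ρ s))
    (hP : ∀ s < 72, P s → s = r ∨ Q s) {g : GL (TT).I K} (hg : g ∈ (TT).rootGen K P) (hf : g ∈ (SS).fix) :
    ∃ c : K, σ c = c ∧ ∃ g' ∈ (TT).rootGen K Q, g' ∈ (SS).fix ∧ g = xx r c * g' := by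
  obtain ⟨a, b, g', hg', e⟩ := split hQ hr hr hp hp (Or.inl rfl)
    (fun s hs h => (hP s hs h).elim Or.inl (fun k => Or.inr (Or.inr k))) hg
  rw [x_add hr] at e
  have hG := (SS).rootGen_le_group _ hg'
  have e2 := hf.2
  rw [e, (SS).sg_mul (x_group hr _) hG, sg_x hq hK hr, hρ, (rho_lt r hr).2.2.2.2.1 hρ, Int.cast_one,
    one_mul] at e2
  have hsg : (SS).sg g' ∈ (TT).rootGen K Q := (SS).sg_rootGen (fun i hi => hρQ i.val (hn ▸ i.2) hi) hg'
  have hc : σ (a + b) = a + b := by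
    have k : xx r (-(a + b) + σ (a + b)) ∈ (TT).rootGen K Q := by
      rw [← x_add hr, ← x_inv hr]
      have : (xx r (a + b))⁻¹ * xx r (σ (a + b)) = g' * ((SS).sg g')⁻¹ := by
        rw [inv_mul_eq_iff_eq_mul, eq_comm, ← mul_assoc, ← e2, mul_inv_cancel_right]
      rw [this]
      exact mul_mem hg' (inv_mem hsg)
    have k' := coord_zero hQ.closed hQ.1 hr hp hnQ k
    rw [neg_add_eq_zero] at k'
    exact k'.symm
  refine ⟨a + b, hc, g', hg', ?_, e⟩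
  have := mul_mem (inv_mem (long_fix hq hK hr hρ hc)) hf
  rwa [e, inv_mul_cancel_left] at this

/-- The short coordinate of a fixed element of the positive part. -/
theorem split_short {P Q : ℕ → Prop} (hQ : Up Q) {r : ℕ} (hr : r < 72)
    (hp : 36 ≤ r ∧ 36 ≤ (GR).ρ r) (hρ : (GR).ρ r ≠ r) (hnQ : ¬ Q r)
    (hρQ : ∀ s < 72, Q s → Q ((GR).ρ s))
    (hQ' : Up (fun s => Q s ∨ s = (GR).ρ r))
    (hP : ∀ s < 72, P s → s = r ∨ s = (GR).ρ r ∨ Q s) {g : GL (TT).I K} (hg : g ∈ (TT).rootGen K P)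
    (hf : g ∈ (SS).fix) :
    ∃ t : K, ∃ g' ∈ (TT).rootGen K Q, g' ∈ (SS).fix ∧ g = E hq hK r t * g' := by
  obtain ⟨hr', hrr, -, -, -, -, h7⟩ := rho_lt r hr
  obtain ⟨a, b, g', hg', e⟩ := split hQ hr hr' hp.1 hp.2 (Or.inr ⟨h7 hρ, hρ⟩) hP hg
  have hG := (SS).rootGen_le_group _ hg'
  have e2 := hf.2
  rw [e, (SS).sg_mul (mul_mem (x_group hr _) (x_group hr' _)) hG, (SS).sg_mul (x_group hr _) (x_group hr' _),
    sg_x hq hK hr, sg_x hq hK hr', hrr, ← (pair_comm hr hρ _ _).eq] at e2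
  have hsg : (SS).sg g' ∈ (TT).rootGen K Q := (SS).sg_rootGen (fun i hi => hρQ i.val (hn ▸ i.2) hi) hg'
  set a' := ((GR).ε ((GR).ρ r) : K) * σ b with ha'
  have k : xx r (-a' + a) ∈ (TT).rootGen K (fun s => Q s ∨ s = (GR).ρ r) := by
    rw [← x_add hr, ← x_inv hr]
    have : (xx r a')⁻¹ * xx r a =
        xx ((GR).ρ r) (((GR).ε r : K) * σ a) * (SS).sg g' * g'⁻¹ * (xx ((GR).ρ r) b)⁻¹ := by
      rw [inv_mul_eq_iff_eq_mul, eq_comm, ← mul_assoc, ← mul_assoc, ← mul_assoc, e2]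
      group
    rw [this]
    have hx : ∀ u : K, xx ((GR).ρ r) u ∈ (TT).rootGen K (fun s => Q s ∨ s = (GR).ρ r) := fun u =>
      xU_mem_rootGen (P := fun s => Q s ∨ s = (GR).ρ r) (hn ▸ hr') (Or.inr rfl) u
    have hm : (TT).rootGen K Q ≤ (TT).rootGen K (fun s => Q s ∨ s = (GR).ρ r) :=
      rootGen_mono fun s _ h => Or.inl h
    exact mul_mem (mul_mem (mul_mem (hx _) (hm hsg)) (inv_mem (hm hg'))) (inv_mem (hx _))
  have k' := coord_zero hQ'.closed hQ'.1 hr hp.1 (fun h => h.elim hnQ fun h => hρ h.symm) k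
  rw [neg_add_eq_zero] at k'
  have hb : b = ((GR).ε r : K) * σ a := by
    rw [← k', ha', map_mul, map_intCast, h2 hq hK, ← mul_assoc, ← Int.cast_mul,
      (rho_lt r hr).2.2.2.1, Int.cast_one, one_mul]
  have e' : g = E hq hK r a * g' := by rw [e, E, hb]
  refine ⟨a, g', hg', ?_, e'⟩
  have := mul_mem (inv_mem (E_fix hq hK hr hρ a)) hf
  rwa [e', inv_mul_cancel_left] at this

theorem map_rootGen {P : ℕ → Prop} {g : GL (TT).I K} (hg : g ∈ (TT).rootGen K P) :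
    phi hq hK g ∈ (TT).rootGen K P := by
  induction hg using Subgroup.closure_induction with
  | mem y hy =>
    obtain ⟨r, hr, hP, t, rfl⟩ := hy
    rw [phi_x hq hK (hn ▸ hr)]
    exact xU_mem_rootGen hr hP _
  | one => simp
  | mul a b _ _ ha hb => rw [map_mul]; exact mul_mem ha hb
  | inv a _ ha => rw [map_inv]; exact inv_mem ha

end CfsgLib.KnownA.E6Sub
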