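import Cfsg.Agent.Lib.KnownA.E6Sub.Coord

/-!
An overgroup of the points over the subfield with a short root element outside them is the whole
²E₆(q).
-/

set_option autoImplicit false
set_option maxRecDepth 20000
set_option Elab.async false
set_option linter.unusedSectionVars false

namespace CfsgLib.KnownA.E6Sub

open CfsgLib.Chevalley CfsgLib.Chevalley.Tbl

variable {K : Type*} [Field K] [Finite K] {q : ℕ} {hq : IsPrimePow q} {hK : Nat.card K = q ^ 2}

local notation "TT" => Data.E6.tbl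
local notation "xx" => Data.E6.tbl.xU K
local notation "GR" => Data.E6.graph
local notation "σ" => Twist.E6.fq hq hK
local notation "SS" => AbSetup.S (Twist.E6.setup hq hK)
local notation "φ" => phi hq hK

variable {H : Subgroup (GL (Data.E6.tbl).I K)}

/-- Applying the reflection of an orbit to an orbit element of an overgroup. -/
theorem Over.E_act (h : Over hq hK H) {j r : ℕ} (hj : j < 4) (hr : r < 72) {t : K}
    (ht : E hq hK r t ∈ H) : E hq hK (act j r) ((sgn j r : K) * t) ∈ H := by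
  rw [← nj_E hq hK hj hr]
  exact mul_mem (mul_mem (h.nj_mem hj) ht) (inv_mem (h.nj_mem hj))

/-- The parameters at a short root scale by the subfield. -/
theorem Over.E_smul (h : Over hq hK H) {c t : K} (hc : σ c = c) (hc0 : c ≠ 0)
    (ht : E hq hK 42 t ∈ H) : E hq hK 42 (c * t) ∈ H := by
  obtain ⟨u, rfl⟩ : ∃ u : Kˣ, ((u⁻¹ : Kˣ) : K) = c := ⟨(Units.mk0 c hc0)⁻¹, by simp⟩
  have hu : σ (u : K) = u := by
    rw [Units.val_inv_eq_inv_val, map_inv₀, inv_inj] at hc
    exact hc
  have hρ : (GR).ρ 39 = 39 ∧ (GR).ρ ((TT).neg 39) = (TT).neg 39 ∧ (TT).neg 39 < 72 := by decide +kernel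
  have hnU : ∀ a : K, σ a = a → (TT).nU K 39 a ∈ H := fun a ha =>
    mul_mem (mul_mem (h.long (by norm_num) hρ.1 ha) (h.long hρ.2.2 hρ.2.1 (by rw [map_neg, map_inv₀, ha])))
      (h.long (by norm_num) hρ.1 ha)
  have hh : (TT).dU ((TT).hCh 39 u) ∈ H := by
    rw [← hU_eq Data.E6.valid (show 39 < (TT).n by rw [hn]; norm_num) u]
    exact mul_mem (hnU _ hu) (hnU (-1) (by rw [map_neg, map_one]))
  have hp : (GR).ρ 42 = 37 ∧ (TT).pair 39 42 = -1 ∧ (TT).pair 39 37 = -1 := by decide +kernel
  have e : (TT).dU ((TT).hCh 39 u) * E hq hK 42 t * ((TT).dU ((TT).hCh 39 u))⁻¹ =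
      E hq hK 42 (((u⁻¹ : Kˣ) : K) * t) := by
    rw [E, E, hp.1, ← mul_assoc,
      dU_hCh_xU Data.E6.valid (show 39 < (TT).n by rw [hn]; norm_num) u (show 42 < (TT).n by rw [hn]; norm_num),
      mul_assoc (xx 42 _),
      dU_hCh_xU Data.E6.valid (show 39 < (TT).n by rw [hn]; norm_num) u (show 37 < (TT).n by rw [hn]; norm_num),
      hp.2.1, hp.2.2, _root_.zpow_neg_one, map_mul, hc, ← mul_assoc, mul_inv_cancel_right, mul_left_comm]
  rw [← e]
  exact mul_mem (mul_mem hh ht) (inv_mem hh)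

variable (hq hK)

include hq hK in
theorem card_fixed : Nat.card {c : K // σ c = c} = q := by
  have h := Twist.E6.hcard hq hK 0 (by show 0 < 4; norm_num)
  rw [show ((Twist.E6.setup hq hK).Ss.getD 0 []).length = 1 from rfl, pow_one] at h
  exact (Nat.card_congr (Equiv.subtypeEquivRight fun c =>
    (Twist.E6.fit_single hq hK rfl c).trans (by rw [Twist.E6.fq_apply]))).symm.trans h

variable {hq hK}

theorem Over.E_univ (h : Over hq hK H) {t : K} (ht : E hq hK 42 t ∈ H) (hne : σ t ≠ t) (x : K) :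
    E hq hK 42 x ∈ H := by
  have hρ : (GR).ρ 42 ≠ 42 := by decide +kernel
  let F := {c : K // σ c = c}
  let m : F × F → K := fun p => p.1.1 + p.2.1 * t
  have key : ∀ a b : K, σ a = a → σ b = b → a + b * t = 0 → a = 0 ∧ b = 0 := by
    intro a b ha hb e
    have e1 : a + b * σ t = 0 := by
      have := congrArg σ e
      simpa only [map_add, map_mul, ha, hb, map_zero] using this
    have hb0 : b = 0 := by
      have : b * (σ t - t) = 0 := by linear_combination e1 - e
      exact (mul_eq_zero.mp this).resolve_right (sub_ne_zero.mpr hne)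
    exact ⟨by simpa [hb0] using e, hb0⟩
  have hinj : Function.Injective m := by
    rintro ⟨a, b⟩ ⟨a', b'⟩ e
    obtain ⟨k1, k2⟩ := key (a.1 - a'.1) (b.1 - b'.1) (by rw [map_sub, a.2, a'.2])
      (by rw [map_sub, b.2, b'.2]) (by simp only [m] at e; linear_combination e)
    rw [sub_eq_zero] at k1 k2
    rw [Subtype.ext k1, Subtype.ext k2]
  have hbij : Function.Bijective m := (Nat.bijective_iff_injective_and_card m).mpr ⟨hinj, by
    rw [Nat.card_prod, card_fixed hq hK, hK, pow_two]⟩
  obtain ⟨⟨a, b⟩, rfl⟩ := hbij.2 x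
  show E hq hK 42 (a.1 + b.1 * t) ∈ H
  rw [← E_add hq hK (by norm_num) hρ]
  refine mul_mem (h.E_mem (by norm_num) hρ a.2) ?_
  by_cases hb : (b : K) = 0
  · rw [hb, zero_mul, E_zero hq hK (by norm_num)]; exact one_mem _
  · exact h.E_smul b.2 hb ht

theorem sgn_mul_sgn {j r : ℕ} (hj : j < 4) (hr : r < 72) (x : K) :
    (sgn j r : K) * ((sgn j r : K) * x) = x := by
  rcases (act_rho j hj r hr).2.2.2.2 with e | e <;> simp [e]

theorem Over.eq_top (h : Over hq hK H) {t : K} (ht : E hq hK 42 t ∈ H) (hne : σ t ≠ t) :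
    H = (SS).fix := by
  refine le_antisymm h.le ?_
  rw [← Twist.E6.G_eq hq hK, Twist.E6.G_def]
  show (TT).datum.genSubgroup K (Cfsg.Lie.e6Words K q) ≤ H
  rw [Cfsg.Lie.ChevalleyDatum.genSubgroup, Subgroup.closure_le]
  rintro g ⟨w, hw, hg⟩
  have h42 := h.E_univ ht hne
  have hstep : ∀ j < 4, ∀ r < 72, (∀ x : K, E hq hK r x ∈ H) → ∀ x : K, E hq hK (act j r) x ∈ H :=
    fun j hj r hr hu x => by
      have := h.E_act hj hr (hu ((sgn j r : K) * x))
      rwa [sgn_mul_sgn hj hr] at this
  have h29 := hstep 3 (by norm_num) 42 (by norm_num) h42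
  have h57 := hstep 2 (by norm_num) 42 (by norm_num) h42
  rw [show act 3 42 = 29 by decide +kernel] at h29
  rw [show act 2 42 = 57 by decide +kernel] at h57
  have h56 := hstep 3 (by norm_num) 57 (by norm_num) h57
  rw [show act 3 57 = 56 by decide +kernel] at h56
  have h15 := hstep 2 (by norm_num) 56 (by norm_num) h56
  rw [show act 2 56 = 15 by decide +kernel] at h15
  have hval : ∀ r < 72, ∀ x : K, (TT).datum.x K r x = ((xx r x : GL (TT).I K) : Matrix (TT).I (TT).I K) :=
    fun r hr x => x_eq_val Data.E6.valid (hn ▸ hr) x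
  rcases hw with ⟨x, hx, r, hr, rfl⟩ | ⟨x, rs, hrs, rfl⟩
  · have hx' : σ x = x := (Twist.E6.fq_apply hq hK x).trans hx
    have k : ∀ r ∈ [Cfsg.Lie.e6p2, Cfsg.Lie.e6m2, Cfsg.Lie.e6p4, Cfsg.Lie.e6m4],
        r < 72 ∧ (GR).ρ r = r := by decide +kernel
    obtain ⟨hr', hρ⟩ := k r hr
    rw [show g = xx r x from Units.ext (by
      rw [hg, ← hval r hr' x]
      simp [Cfsg.Lie.ChevalleyDatum.wordMat])]
    exact h.long hr' hρ hx'
  · have key : ∀ a b : ℕ, a < 72 → b < 72 → (GR).ρ a = b → (GR).ε a = 1 → (∀ y, E hq hK a y ∈ H) →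
        (g : Matrix (TT).I (TT).I K) = (TT).datum.wordMat K [(a, x), (b, x ^ q)] → g ∈ H := by
      intro a b ha hb hρ hε hu hg'
      rw [show g = E hq hK a x from Units.ext (by
        rw [hg']
        simp [Cfsg.Lie.ChevalleyDatum.wordMat, E, hρ, hε, hval a ha, hval b hb,
          Twist.E6.fq_apply])]
      exact hu x
    simp only [List.mem_cons, List.not_mem_nil, or_false] at hrs
    rcases hrs with rfl | rfl | rfl | rfl
    · exact key 56 36 (by norm_num) (by norm_num) (by decide +kernel) (by decide +kernel) h56 hg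
    · exact key 15 35 (by norm_num) (by norm_num) (by decide +kernel) (by decide +kernel) h15 hg
    · exact key 42 37 (by norm_num) (by norm_num) (by decide +kernel) (by decide +kernel) h42 hg
    · exact key 29 34 (by norm_num) (by norm_num) (by decide +kernel) (by decide +kernel) h29 hg

/-- In a proper overgroup the parameters at the highest short root are fixed. -/
theorem Over.top_fixed (h : Over hq hK H) (hH : H ≠ (SS).fix) {t : K} (ht : E hq hK 66 t ∈ H) :
    σ t = t := by
  have step : ∀ (j r r' : ℕ), act j r = r' → j < 4 → r < 72 → ∀ s : K,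
      E hq hK r s ∈ H ∧ (σ s = s → σ t = t) → ∃ s', E hq hK r' s' ∈ H ∧ (σ s' = s' → σ t = t) := by
    intro j r r' e hj hr s ⟨h1, h2⟩
    refine ⟨_, e ▸ h.E_act hj hr h1, fun h3 => h2 ?_⟩
    have := congrArg (fun y : K => (sgn j r : K) * y) h3
    simp only [sgn_mul_sgn hj hr, map_mul, map_intCast] at this
    exact this
  obtain ⟨_, a1⟩ := step 2 66 55 (by decide +kernel) (by norm_num) (by norm_num) t ⟨ht, id⟩
  obtain ⟨_, a2⟩ := step 3 55 54 (by decide +kernel) (by norm_num) (by norm_num) _ a1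
  obtain ⟨_, a3⟩ := step 1 54 52 (by decide +kernel) (by norm_num) (by norm_num) _ a2
  obtain ⟨_, a4⟩ := step 0 52 45 (by decide +kernel) (by norm_num) (by norm_num) _ a3
  obtain ⟨_, a5⟩ := step 2 45 59 (by decide +kernel) (by norm_num) (by norm_num) _ a4
  obtain ⟨_, a6⟩ := step 3 59 58 (by decide +kernel) (by norm_num) (by norm_num) _ a5
  obtain ⟨_, a7⟩ := step 1 58 57 (by decide +kernel) (by norm_num) (by norm_num) _ a6
  obtain ⟨s, h1, h2⟩ := step 2 57 42 (by decide +kernel) (by norm_num) (by norm_num) _ a7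
  by_contra hne
  exact hH (h.eq_top h1 fun e => hne (h2 e))

end CfsgLib.KnownA.E6Sub
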