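import Cfsg.Agent.Lib.KnownA.E6Sub.Field

/-!
An element of the positive part in a proper overgroup of the points over the subfield is one of
these points.
-/

set_option autoImplicit false
set_option maxRecDepth 20000
set_option Elab.async false
set_option linter.unusedSectionVars false

namespace CfsgLib.KnownA.E6Sub

open CfsgLib.Chevalley CfsgLib.Chevalley.Tbl

variable {K : Type*} [Field K] [Finite K] {q : ℕ} {hq : IsPrimePow q} {hK : Nat.card K = q ^ 2}

local notation "TT" => Data.E6.tbl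
local notation "xx" => Data.E6.tbl.xU K
local notation "GR" => Data.E6.graph
local notation "σ" => Twist.E6.fq hq hK
local notation "SS" => AbSetup.S (Twist.E6.setup hq hK)
local notation "φ" => phi hq hK
local notation "UU" => Tbl.rootGen Data.E6.tbl K (fun r => 36 ≤ r)

variable {H : Subgroup (GL (Data.E6.tbl).I K)}

theorem rk_rho : ∀ s < 72, 36 ≤ s → 36 ≤ (GR).ρ s ∧ rk ((GR).ρ s) = rk s := by decide +kernel

theorem rho_rem (k : ℕ) : ∀ s < 72, rem k s → rem k ((GR).ρ s) := fun s hs h =>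
  ⟨(rk_rho s hs h.1).1, (rk_rho s hs h.1).2.symm ▸ h.2⟩

theorem up_rem_or {k r : ℕ} (hr : r < 72) (hp : 36 ≤ r) (hrk : k ≤ rk r) :
    Up (fun s => rem (k + 1) s ∨ s = r) :=
  ⟨fun s h => h.elim (fun h => h.1) (fun e => e ▸ hp), fun a ha hap s hs h c hc => by
    rcases h with h | rfl
    · exact Or.inl ((up_rem (k + 1)).2 a ha hap s hs h c hc)
    · obtain ⟨h1, -, h3, -, -⟩ := grow a ha hap s hs hp c hc
      exact Or.inl ⟨h1, by omega⟩⟩

theorem rem_top {g : GL (TT).I K} (hg : g ∈ (TT).rootGen K (rem 24)) : g = 1 := by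
  have k : ∀ r < 72, 36 ≤ r → rk r < 24 := by decide +kernel
  have hle : (TT).rootGen K (rem 24) ≤ ⊥ :=
    rootGen_le fun r hr h t => absurd h.2 (not_le.mpr (k r (hn ▸ hr) h.1))
  exact Subgroup.mem_bot.mp (hle hg)

/-- A long root split off keeps the fixed points. -/
theorem long_step {k r : ℕ} (hr : r < 72 ∧ 36 ≤ r ∧ (GR).ρ r = r ∧ rk r = k)
    (hP : ∀ s < 72, rem k s → s = r ∨ rem (k + 1) s) {g : GL (TT).I K}
    (hg : g ∈ (TT).rootGen K (rem k)) (hf : g ∈ (SS).fix) :
    ∃ x g', x ∈ (SS).fix ∧ φ x = x ∧ g' ∈ (TT).rootGen K (rem (k + 1)) ∧ g' ∈ (SS).fix ∧ g = x * g' := by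
  obtain ⟨hr, hp, hρ, hrk⟩ := hr
  obtain ⟨c, hc, g', hg', hf', rfl⟩ := split_long (up_rem (k + 1)) hr hp hρ
    (fun h => by have := h.2; omega) (rho_rem _) hP hg hf
  exact ⟨_, g', long_fix hq hK hr hρ hc, long_phi hq hK hr hc, hg', hf', rfl⟩

/-- The part of long roots of the largest heights is fixed by the field map. -/
theorem upper_fixed {g : GL (TT).I K} (hg : g ∈ (TT).rootGen K (rem 21)) (hf : g ∈ (SS).fix) :
    φ g = g := by
  obtain ⟨x1, g1, -, h1, hg1, hf1, rfl⟩ :=
    long_step (hq := hq) (hK := hK) (k := 21) (r := 69) (by decide +kernel) (by decide +kernel) hg hf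
  obtain ⟨x2, g2, -, h2, hg2, hf2, rfl⟩ :=
    long_step (hq := hq) (hK := hK) (k := 22) (r := 70) (by decide +kernel) (by decide +kernel) hg1 hf1
  obtain ⟨x3, g3, -, h3, hg3, -, rfl⟩ :=
    long_step (hq := hq) (hK := hK) (k := 23) (r := 71) (by decide +kernel) (by decide +kernel) hg2 hf2
  rw [map_mul, map_mul, map_mul, h1, h2, h3, rem_top hg3, map_one]

/-- The second factor of a fixed element over a fundamental orbit. -/
noncomputable def co2 (a : ℕ) : GL (Data.E6.tbl).I K :=
  if Data.E6.graph.ρ a = a then 1 else Data.E6.tbl.xU K (Data.E6.graph.ρ a) 1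

theorem X_fixed {a : ℕ} (ha : a < 72 ∧ (GR).ε a = 1) :
    (xx a 1 * co2 a : GL (TT).I K) ∈ (SS).fix ∧ φ (xx a 1 * co2 a) = xx a 1 * co2 a := by
  obtain ⟨ha, hε⟩ := ha
  unfold co2
  split
  · next h => exact ⟨by rw [mul_one]; exact long_fix hq hK ha h (map_one _),
      by rw [mul_one]; exact long_phi hq hK ha (map_one _)⟩
  · next h =>
    have e : xx a 1 * xx ((GR).ρ a) 1 = E hq hK a 1 := by simp [E, hε]
    rw [e]
    exact ⟨E_fix hq hK ha h 1, by rw [E_phi hq hK ha, map_one]⟩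

theorem co2_U {a : ℕ} (ha : a < 72) (hp : 36 ≤ a) : (co2 a : GL (TT).I K) ∈ UU := by
  unfold co2
  split
  · exact one_mem _
  · exact x_U (rho_lt a ha).1 (rk_rho a ha hp).1 1

theorem cm_co2 {Q : ℕ → Prop} (hQ : Up Q) {a s : ℕ} (ha : a < 72) (hp : 36 ≤ a) (hs : s < 72)
    (hsp : 36 ≤ s)
    (h : (GR).ρ a ≠ a → s = (GR).ρ a ∨ ∀ c ∈ (TT).commT ((GR).ρ a) s, Q c.1) (u : K) :
    CM Q (xx s u) (co2 a) := by
  unfold co2
  split
  · simp [CM]
  · next h' => exact cm_gen hQ (rho_lt a ha).1 (rk_rho a ha hp).1 hs hsp (h h') u 1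

/-- The short coordinate at a position with a commutator certificate is fixed. -/
theorem Over.short_step (h : Over hq hK H) {k r a v : ℕ} {N : ℤ}
    (hk : r < 72 ∧ a < 72 ∧ v < 72 ∧ 36 ≤ r ∧ 36 ≤ a ∧ 36 ≤ v ∧ r ≠ a ∧ (GR).ρ r ≠ r ∧ rk r = k ∧
      rk ((GR).ρ r) = k ∧ (GR).ε a = 1 ∧ (N = 1 ∨ N = -1) ∧ (TT).commT a r = [(v, N, 1, 1)])
    (hP : ∀ s < 72, rem k s → s = r ∨ s = (GR).ρ r ∨ rem (k + 1) s)
    (hPa : ∀ s < 72, rem k s → s = r ∨ s = a ∨ ∀ c ∈ (TT).commT a s, qv v c.1)
    (hPb : ∀ s < 72, rem k s → (GR).ρ a = a ∨ s = (GR).ρ a ∨ ∀ c ∈ (TT).commT ((GR).ρ a) s, qv v c.1)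
    (ih : ∀ g ∈ H, g ∈ (TT).rootGen K (rem (k + 1)) → φ g = g) {g : GL (TT).I K}
    (hgH : g ∈ H) (hg : g ∈ (TT).rootGen K (rem k)) : φ g = g := by
  obtain ⟨hr, ha, hv, hp, hap, hvp, hne, hρ, hrk, hrk', hε, hN, hc⟩ := hk
  obtain ⟨hr', -⟩ := rho_lt r hr
  have hp' : 36 ≤ (GR).ρ r := (rk_rho r hr hp).1
  obtain ⟨t, g', hg', hf', e⟩ := split_short (up_rem (k + 1)) hr ⟨hp, hp'⟩ hρ
    (fun h => by have := h.2; omega) (rho_rem _) (up_rem_or hr' hp' hrk'.ge) hP hg (h.le hgH)
  set y : GL (TT).I K := co2 a with hy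
  have hyU : y ∈ UU := co2_U ha hap
  obtain ⟨hXf, hXφ⟩ := X_fixed (K := K) (hq := hq) (hK := hK) (a := a) ⟨ha, hε⟩
  set X := xx a 1 * y with hX
  have hXH : X ∈ H := h.ge _ hXf hXφ
  have hQ := up_rem (k + 1)
  have hcm : CM (rem (k + 1)) g X := by
    refine cm_of_gen hQ (fun s h => h.1) (mul_mem (x_U ha hap 1) hyU) (fun s hs hPs u => ?_) hg
    have hgr : ∀ b < 72, 36 ≤ b → ∀ c ∈ (TT).commT b s, rem (k + 1) c.1 := fun b hb hbp c hc => by
      obtain ⟨h1, -, h3, -, -⟩ := grow b hb hbp s hs hPs.1 c hc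
      have := hPs.2
      exact ⟨h1, by omega⟩
    exact (cm_gen hQ ha hap hs hPs.1 (Or.inr (hgr a ha hap)) u 1).mul_right hQ (x_U ha hap 1)
      (cm_co2 hQ ha hap hs hPs.1 (fun _ => Or.inr (hgr _ (rho_lt a ha).1 (rk_rho a ha hap).1)) u)
  have hfix := ih _ (mul_mem (mul_mem (mul_mem hgH hXH) (inv_mem hgH)) (inv_mem hXH)) hcm
  rw [map_mul, map_mul, map_mul, map_inv, map_inv, hXφ] at hfix
  have hd : Commute (g⁻¹ * φ g) X := by
    have k : φ g * X * (φ g)⁻¹ = g * X * g⁻¹ := mul_right_cancel hfix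
    show _ = _
    calc g⁻¹ * φ g * X = g⁻¹ * (φ g * X * (φ g)⁻¹) * φ g := by group
      _ = _ := by rw [k]; group
  set δ := σ t - t with hδ
  have e' : g⁻¹ * φ g = g'⁻¹ * xx r δ * (xx ((GR).ρ r) (((GR).ε r : K) * σ δ) * φ g') := by
    rw [e, map_mul, E_phi hq hK hr, mul_inv_rev, E_inv hq hK hr hρ, mul_assoc g'⁻¹,
      ← mul_assoc (E hq hK r (-t)), E_add hq hK hr hρ, neg_add_eq_sub, ← hδ, E]
    simp only [mul_assoc]
  rw [e'] at hd
  have hm : (TT).rootGen K (rem (k + 1)) ≤ (TT).rootGen K (fun s => rem k s ∧ s ≠ r) :=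
    rootGen_mono fun s _ h => ⟨⟨h.1, by have := h.2; omega⟩, fun e => by subst e; have := h.2; omega⟩
  have ht0 : δ = 0 := by
    refine coord (P := fun s => rem k s ∧ s ≠ r) (fun s h => h.1.1) hr ha hv ⟨hp, hap, hvp, hne⟩ hN hc
      (fun s hs h => (hPa s hs h.1).resolve_left h.2) (one_ne_zero) (hm (inv_mem hg'))
      (mul_mem (xU_mem_rootGen (P := fun s => rem k s ∧ s ≠ r) (hn ▸ hr') ⟨⟨hp', hrk'.ge⟩, hρ⟩ _)
        (hm (map_rootGen hg'))) hyU (fun s hs h u => ?_) hd
    have hs' : rem k s := h.elim (fun h => h.1) (fun e => e ▸ ⟨hp, hrk.ge⟩)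
    exact cm_co2 (up_qv v) ha hap hs hs'.1 (fun h' => (hPb s hs hs').resolve_left h') u
  have hσ : σ t = t := sub_eq_zero.mp ht0
  have hEH : E hq hK r t ∈ H := h.E_mem hr hρ hσ
  have hg'H : g' ∈ H := by
    have := mul_mem (inv_mem hEH) hgH
    rwa [e, inv_mul_cancel_left] at this
  rw [e, map_mul, E_phi hq hK hr, hσ, ih g' hg'H hg']

theorem Over.long_step' (h : Over hq hK H) {k r : ℕ} (hr : r < 72 ∧ 36 ≤ r ∧ (GR).ρ r = r ∧ rk r = k)
    (hP : ∀ s < 72, rem k s → s = r ∨ rem (k + 1) s)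
    (ih : ∀ g ∈ H, g ∈ (TT).rootGen K (rem (k + 1)) → φ g = g) {g : GL (TT).I K}
    (hgH : g ∈ H) (hg : g ∈ (TT).rootGen K (rem k)) : φ g = g := by
  obtain ⟨x, g', hxf, hxφ, hg', -, rfl⟩ := long_step (hq := hq) (hK := hK) hr hP hg (h.le hgH)
  have : g' ∈ H := by
    have := mul_mem (inv_mem (h.ge x hxf hxφ)) hgH
    rwa [inv_mul_cancel_left] at this
  rw [map_mul, hxφ, ih g' this hg']

/-- The positive part of a proper overgroup is fixed by the field map. -/
theorem Over.pos_fixed (h : Over hq hK H) (hH : H ≠ (SS).fix) {g : GL (TT).I K} (hgH : g ∈ H)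
    (hgU : g ∈ UU) : φ g = g := by
  let C : ℕ → Prop := fun k => ∀ g ∈ H, g ∈ (TT).rootGen K (rem k) → φ g = g
  have c20 : C 20 := by
    intro g hgH hg
    obtain ⟨t, g', hg', hf', e⟩ := split_short (up_rem 21) (r := 66) (by norm_num) (by decide +kernel)
      (by decide +kernel) (by decide +kernel) (rho_rem _)
      (up_rem_or (k := 20) (rho_lt 66 (by norm_num)).1 (by decide +kernel) (by decide +kernel))
      (by decide +kernel) hg (h.le hgH)
    have hg'φ := upper_fixed (hq := hq) (hK := hK) hg' hf'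
    have hE : E hq hK 66 t ∈ H := by
      have := mul_mem hgH (inv_mem (h.ge g' hf' hg'φ))
      rwa [e, mul_inv_cancel_right] at this
    rw [e, map_mul, E_phi hq hK (show 66 < 72 by norm_num), h.top_fixed hH hE, hg'φ]
  have c19 : C 19 := fun g => h.short_step (k := 19) (r := 55) (a := 56) (v := 66) (N := -1)
    (by decide +kernel) (by decide +kernel) (by decide +kernel) (by decide +kernel) c20
  have c18 : C 18 := fun g => h.long_step' (k := 18) (r := 65) (by decide +kernel) (by decide +kernel) c19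
  have c17 : C 17 := fun g => h.short_step (k := 17) (r := 54) (a := 37) (v := 55) (N := 1)
    (by decide +kernel) (by decide +kernel) (by decide +kernel) (by decide +kernel) c18
  have c16 : C 16 := fun g => h.long_step' (k := 16) (r := 63) (by decide +kernel) (by decide +kernel) c17
  have c15 : C 15 := fun g => h.short_step (k := 15) (r := 52) (a := 39) (v := 54) (N := 1)
    (by decide +kernel) (by decide +kernel) (by decide +kernel) (by decide +kernel) c16
  have c14 : C 14 := fun g => h.long_step' (k := 14) (r := 60) (by decide +kernel) (by decide +kernel) c15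
  have c13 : C 13 := fun g => h.long_step' (k := 13) (r := 53) (by decide +kernel) (by decide +kernel) c14
  have c12 : C 12 := fun g => h.short_step (k := 12) (r := 49) (a := 42) (v := 52) (N := 1)
    (by decide +kernel) (by decide +kernel) (by decide +kernel) (by decide +kernel) c13
  have c11 : C 11 := fun g => h.short_step (k := 11) (r := 45) (a := 46) (v := 52) (N := 1)
    (by decide +kernel) (by decide +kernel) (by decide +kernel) (by decide +kernel) c12
  have c10 : C 10 := fun g => h.long_step' (k := 10) (r := 51) (by decide +kernel) (by decide +kernel) c11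
  have c9 : C 9 := fun g => h.short_step (k := 9) (r := 48) (a := 36) (v := 49) (N := 1)
    (by decide +kernel) (by decide +kernel) (by decide +kernel) (by decide +kernel) c10
  have c8 : C 8 := fun g => h.short_step (k := 8) (r := 41) (a := 46) (v := 49) (N := -1)
    (by decide +kernel) (by decide +kernel) (by decide +kernel) (by decide +kernel) c9
  have c7 : C 7 := fun g => h.long_step' (k := 7) (r := 44) (by decide +kernel) (by decide +kernel) c8
  have c6 : C 6 := fun g => h.short_step (k := 6) (r := 40) (a := 46) (v := 48) (N := -1)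
    (by decide +kernel) (by decide +kernel) (by decide +kernel) (by decide +kernel) c7
  have c5 : C 5 := fun g => h.short_step (k := 5) (r := 38) (a := 39) (v := 41) (N := -1)
    (by decide +kernel) (by decide +kernel) (by decide +kernel) (by decide +kernel) c6
  have c4 : C 4 := fun g => h.long_step' (k := 4) (r := 47) (by decide +kernel) (by decide +kernel) c5
  have c3 : C 3 := fun g => h.short_step (k := 3) (r := 37) (a := 39) (v := 40) (N := -1)
    (by decide +kernel) (by decide +kernel) (by decide +kernel) (by decide +kernel) c4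
  have c2 : C 2 := fun g => h.short_step (k := 2) (r := 36) (a := 37) (v := 38) (N := -1)
    (by decide +kernel) (by decide +kernel) (by decide +kernel) (by decide +kernel) c3
  have c1 : C 1 := fun g => h.long_step' (k := 1) (r := 46) (by decide +kernel) (by decide +kernel) c2
  have c0 : C 0 := fun g => h.long_step' (k := 0) (r := 39) (by decide +kernel) (by decide +kernel) c1
  exact c0 g hgH (rootGen_mono (fun s _ hs => ⟨hs, Nat.zero_le _⟩) hgU)

end CfsgLib.KnownA.E6Sub
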